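import Cfsg.Agent.RankTwo.Blackburn
import Cfsg.Agent.Coprime.Tools
import Cfsg.Agent.Fusion.RankTwo

/-!
Blackburn's structure theorem for `p`-groups of rank two, `p > 3`, which are not metacyclic.
-/

set_option autoImplicit false
set_option linter.unusedSectionVars false
set_option linter.style.haveILetI false

namespace Cfsg.Agent.RankTwo

open Subgroup
open scoped commutatorElement

universe u

variable {p : ℕ} [hp : Fact p.Prime] {G : Type u} [Group G]

/-- The central product of a nonabelian group of order `p ^ 3` and exponent `p` and a cyclic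
group. -/
structure IsCentralProd (p : ℕ) (D T : Subgroup G) : Prop where
  sup : D ⊔ T = ⊤
  comm : ∀ a ∈ D, ∀ b ∈ T, a * b = b * a
  nonab : ¬ IsMulCommutative D
  card : Nat.card D = p ^ 3
  exponent : ∀ x ∈ D, x ^ p = 1
  cyclic : IsCyclic T
  omega_eq : closure {x : G | x ∈ T ∧ x ^ p = 1} = ⁅D, D⁆
  inf_eq : D ⊓ centralizer (D : Set G) = ⁅D, D⁆
  card_commutator : Nat.card (⁅D, D⁆ : Subgroup G) = p

/-- The other type: generators `u` of order `p` and `c` of order `p ^ (k + 1)` with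
`⁅u, c⁆` a noncentral element of order `p`. -/
structure IsSkew (p : ℕ) (E : Subgroup G) (u c : G) (k : ℕ) : Prop where
  normal : E.Normal
  card_E : Nat.card E = p ^ 2
  u_pow : u ^ p = 1
  E_exp : ∀ e ∈ E, e ^ p = 1
  E_comm : ∀ e ∈ E, Commute e c
  E_comm' : ∀ a ∈ E, ∀ b ∈ E, Commute a b
  c_order : orderOf c = p ^ (k + 1)
  k_pos : 1 ≤ k
  card_eq : Nat.card G = p ^ (k + 3)
  gen : (E ⊔ zpowers c) ⊔ zpowers u = ⊤
  u_not_mem : u ∉ E ⊔ zpowers c
  sup_normal : (E ⊔ zpowers c).Normal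
  top_mem : c ^ p ^ k ∈ E
  top_comm : Commute u (c ^ p ^ k)
  comm_mem : ⁅u, c⁆ ∈ E
  comm_noncentral : ¬ Commute u ⁅u, c⁆
  canonical : ∀ a : G, ∀ d ∈ Cfsg.omegaOne p (⊤ : Subgroup G), ⁅a, d⁆ ∈ E
  canonical_ne : ∃ a : G, ∃ d ∈ Cfsg.omegaOne p (⊤ : Subgroup G), ¬ Commute u ⁅a, d⁆

variable [Finite G]

/-- A `p`-group, `p` odd, whose elements of order dividing `p` lie in a subgroup of order at most
`p` is cyclic. -/
theorem isCyclic_of_omega_small (hp2 : p ≠ 2) {K : Subgroup G} (hK : IsPGroup p K) {Z : Subgroup G}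
    (hZ : Nat.card Z ≤ p) (h : ∀ x ∈ K, x ^ p = 1 → x ∈ Z) : IsCyclic K := by
  by_contra hc
  obtain ⟨A, -, hAe, hAc⟩ := Fusion.exists_normal_elementary_card_sq hp2 hK hc
  have h1 : A.map K.subtype ≤ Z := by
    rintro _ ⟨a, ha, rfl⟩
    exact h _ a.2 (by simpa using congrArg Subtype.val (hAe.2 a ha))
  have h2 := Nat.le_of_dvd Nat.card_pos (card_dvd_of_le h1)
  rw [card_map_of_injective K.subtype_injective, hAc] at h2
  exact absurd (h2.trans hZ) (not_le.mpr (lt_self_pow₀ hp.out.one_lt (by norm_num)))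

theorem structure_of_omega_cube (hp3 : 3 < p) (hG : IsPGroup p G) (hr : Cfsg.PRankLE p 2 G)
    (hO : Nat.card (Cfsg.omegaOne p (⊤ : Subgroup G)) = p ^ 3) :
    (∃ D T : Subgroup G, IsCentralProd p D T) ∨ ∃ E u c k, IsSkew (G := G) p E u c k := by
  have hp2 : p ≠ 2 := by omega
  obtain ⟨hexp, -⟩ := omega_exponent hp3 hG hr
  set D := Cfsg.omegaOne p (⊤ : Subgroup G) with hD
  haveI hDn : D.Normal := omega_normal ⊤
  have hDne : D ≠ ⊥ := fun h => by
    rw [h, card_bot] at hO
    exact (Nat.one_lt_pow (by norm_num) hp.out.one_lt).ne hO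
  obtain ⟨Z, hZD, hZc, hZn, hZ⟩ := Fusion.exists_central_card_prime hG D hDne
  haveI := hZn
  have hcz : ∀ z ∈ Z, ∀ g : G, Commute z g := fun z hz g => (mem_center_iff.mp (hZc hz) g).symm
  -- three commuting elements of order `p`
  have hthree : ∀ w ∈ D, w ∉ Z → ∀ a ∈ D, Commute a w → a ∈ Z ⊔ zpowers w := by
    intro w hw hwZ a ha haw
    by_contra haA
    set A := closure ((Z : Set G) ∪ {w, a}) with hA
    have hcomm : ∀ x ∈ A, ∀ y ∈ A, x * y = y * x := by
      have hle : A ≤ centralizer (A : Set G) := by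
        rw [hA, closure_le, centralizer_closure]
        rintro x (hx | rfl | rfl) <;> refine mem_centralizer_iff.mpr ?_
        · exact fun y _ => ((hcz x hx y).symm).eq
        · rintro y (hy | rfl | rfl)
          exacts [(hcz y hy _).eq, rfl, haw.eq]
        · rintro y (hy | rfl | rfl)
          exacts [(hcz y hy _).eq, haw.symm.eq, rfl]
      exact fun x hx y hy => mem_centralizer_iff.mp (hle hy) x hx
    have hAD : A ≤ D := by
      rw [hA, closure_le]
      rintro x (hx | rfl | rfl)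
      exacts [hZD hx, hw, ha]
    have h1 := card_le_of_rank hr hcomm fun x hx => hexp x (hAD hx)
    have h2 : Z ⊔ zpowers w < A := lt_of_le_of_ne (sup_le (fun z hz => subset_closure (Or.inl hz))
      (zpowers_le.mpr (subset_closure (Or.inr (Or.inl rfl)))))
      fun h => haA (h ▸ subset_closure (Or.inr (Or.inr rfl)))
    have h3 := card_mul_le_of_lt hG (lt_of_le_of_ne (le_sup_left : Z ≤ Z ⊔ zpowers w)
      fun h => hwZ (h.ge (mem_sup_right (mem_zpowers w))))
    have h4 := (Nat.mul_le_mul_left p h3).trans ((card_mul_le_of_lt hG h2).trans h1)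
    rw [hZ, show p * (p * p) = p ^ 3 by ring] at h4
    exact absurd ((Nat.pow_le_pow_iff_right hp.out.one_lt).mp h4) (by norm_num)
  have hsq : ∀ w ∈ D, w ∉ Z → Nat.card (Z ⊔ zpowers w : Subgroup G) ≤ p ^ 2 := fun w hw _ =>
    (card_sup_zpowers_le (hexp w hw)).trans_eq (by rw [hZ, pow_two])
  have hcenD : ∀ w ∈ D, (∀ d ∈ D, Commute w d) → w ∈ Z := by
    intro w hw hall
    by_contra hwZ
    have h1 : D ≤ Z ⊔ zpowers w := fun a ha => hthree w hw hwZ a ha (hall a ha).symm
    have h2 := (Nat.le_of_dvd Nat.card_pos (card_dvd_of_le h1)).trans (hsq w hw hwZ)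
    rw [hO] at h2
    exact absurd ((Nat.pow_le_pow_iff_right hp.out.one_lt).mp h2) (by norm_num)
  have hDZ : ∀ a ∈ D, ∀ b ∈ D, ⁅a, b⁆ ∈ Z := by
    intro a ha b hb
    have hmem : ⁅(⟨a, ha⟩ : D), ⟨b, hb⟩⁆ ∈ center D :=
      commutator_le_center_of_card_le (hG.to_subgroup D) hO.le (by
        rw [_root_.commutator_def]; exact commutator_mem_commutator (mem_top _) (mem_top _))
    refine hcenD _ (D.mul_mem (D.mul_mem (D.mul_mem ha hb) (D.inv_mem ha)) (D.inv_mem hb))
      fun d hd => ?_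
    exact (congrArg Subtype.val (mem_center_iff.mp hmem ⟨d, hd⟩)).symm
  have hnonab : ¬ IsMulCommutative D := fun h => by
    have h1 := hr D h hexp
    rw [hO] at h1
    exact absurd ((Nat.pow_le_pow_iff_right hp.out.one_lt).mp h1) (by norm_num)
  obtain ⟨x, hx, y, hy, hxy⟩ : ∃ x ∈ D, ∃ y ∈ D, ¬ Commute x y := by
    by_contra h
    push Not at h
    exact hnonab ⟨⟨fun a b => Subtype.ext (h a a.2 b b.2).eq⟩⟩
  have hDD : ⁅D, D⁆ = Z := by
    refine eq_of_le_of_card_ge (commutator_le.mpr hDZ) ?_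
    rw [hZ]
    exact Nat.le_of_dvd Nat.card_pos (((hG.to_subgroup _).card_eq_or_dvd).resolve_left fun h => by
      have h1 : ⁅x, y⁆ ∈ ⁅D, D⁆ := commutator_mem_commutator hx hy
      rw [card_eq_one.mp h, mem_bot] at h1
      exact hxy (commutatorElement_eq_one_iff_commute.mp h1))
  have hinf : D ⊓ centralizer (D : Set G) = Z := le_antisymm
    (fun w hw => hcenD w hw.1 fun d hd => (mem_centralizer_iff.mp hw.2 d hd).symm)
    (fun z hz => ⟨hZD hz, mem_centralizer_iff.mpr fun d _ => (hcz z hz d).eq.symm⟩)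
  by_cases hA : ∀ a : G, ∀ d ∈ D, ⁅a, d⁆ ∈ Z
  · -- central product
    left
    set T := centralizer (D : Set G) with hT
    have hxZ : x ∉ Z := fun h => hxy (hcz x h y)
    have hDgen : D ≤ (Z ⊔ zpowers x) ⊔ zpowers y := by
      refine (eq_of_le_of_card_ge (sup_le (sup_le hZD (zpowers_le.mpr hx)) (zpowers_le.mpr hy)) ?_).ge
      rw [hO]
      have h1 := card_mul_le_of_lt hG (lt_of_le_of_ne (le_sup_left : Z ≤ Z ⊔ zpowers x)
        fun h => hxZ (h.ge (mem_sup_right (mem_zpowers x))))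
      have h2 := card_mul_le_of_lt hG (lt_of_le_of_ne
        (le_sup_left : Z ⊔ zpowers x ≤ (Z ⊔ zpowers x) ⊔ zpowers y) fun h => hxy (by
          have hle : Z ⊔ zpowers x ≤ centralizer {x} := sup_le
            (fun z hz => mem_centralizer_singleton_iff.mpr (hcz z hz x).eq)
            (zpowers_le.mpr (mem_centralizer_singleton_iff.mpr rfl))
          exact (mem_centralizer_singleton_iff.mp (hle (h.ge (mem_sup_right (mem_zpowers y))))).symm))
      rw [hZ] at h1
      exact le_trans (by rw [pow_succ', pow_two]; exact Nat.mul_le_mul_left p h1) h2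
    have hk1 := OddLocal.card_le_of_commutator_mem (L := (⊤ : Subgroup G)) (N := Z) (s := x)
      fun a _ => hA a x hx
    have hk2 := OddLocal.card_le_of_commutator_mem (L := (⊤ : Subgroup G) ⊓ centralizer {x})
      (N := Z) (s := y) fun a _ => hA a y hy
    have hle : (⊤ : Subgroup G) ⊓ centralizer {x} ⊓ centralizer {y} ≤ T := by
      rintro w ⟨⟨-, hwx⟩, hwy⟩
      refine mem_centralizer_iff.mpr fun d hd => ?_
      have hle : (Z ⊔ zpowers x) ⊔ zpowers y ≤ centralizer {w} := sup_le (sup_le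
        (fun z hz => mem_centralizer_singleton_iff.mpr (hcz z hz w).eq)
        (zpowers_le.mpr (mem_centralizer_singleton_iff.mpr (mem_centralizer_singleton_iff.mp hwx).symm)))
        (zpowers_le.mpr (mem_centralizer_singleton_iff.mpr (mem_centralizer_singleton_iff.mp hwy).symm))
      exact mem_centralizer_singleton_iff.mp (hle (hDgen hd))
    rw [card_top, hZ] at hk1
    rw [hZ] at hk2
    have h5 : Nat.card G ≤ Nat.card T * p ^ 2 := hk1.trans ((Nat.mul_le_mul_right p (hk2.trans
      (Nat.mul_le_mul_right p (Nat.le_of_dvd Nat.card_pos (card_dvd_of_le hle))))).trans_eq (by ring))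
    have hsup : D ⊔ T = ⊤ := by
      refine eq_top_of_le_card _ ?_
      haveI : T.Normal := by
        rw [hT]
        exact inferInstance
      have h6 := Core.card_sup_mul_card_inf D T
      rw [hinf, hZ, hO] at h6
      refine Nat.le_of_mul_le_mul_right ?_ hp.out.pos
      rw [h6, show p ^ 3 * Nat.card T = Nat.card T * p ^ 2 * p by ring]
      exact Nat.mul_le_mul_right p h5
    refine ⟨D, T, hsup, fun a ha b hb => mem_centralizer_iff.mp hb a ha, hnonab, hO, hexp, ?_, ?_,
      hinf.trans hDD.symm, by rw [hDD, hZ]⟩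
    · exact isCyclic_of_omega_small hp2 (hG.to_subgroup T) hZ.le fun w hw hwp =>
        hinf.le ⟨mem_omega (mem_top w) hwp, hw⟩
    · rw [hDD]
      refine le_antisymm ((closure_le _).mpr fun w hw => hinf.le ⟨mem_omega (mem_top w) hw.2, hw.1⟩)
        fun z hz => subset_closure ⟨(hinf.ge hz).2, hexp z (hZD hz)⟩
  -- the skew case
  right
  push Not at hA
  obtain ⟨a₀, d₀, hd₀, hb₀⟩ := hA
  obtain ⟨E, hEn, hZE, hED, hEc, -⟩ := Fusion.exists_normal_card_succ hG Z D (lt_of_le_of_ne hZD
    fun h => by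
      rw [← h, hZ] at hO
      exact (lt_self_pow₀ hp.out.one_lt (by norm_num : 1 < 3)).ne hO)
  rw [hZ, ← pow_two] at hEc
  haveI := hEn
  have hrelD : E.relIndex D ∣ p := by
    have h3 := relIndex_mul_relIndex ⊥ E D bot_le hED
    rw [relIndex_bot_left, relIndex_bot_left, hEc, hO] at h3
    exact (Nat.eq_of_mul_eq_mul_left (pow_pos hp.out.pos 2) (h3.trans (pow_succ p 2))).dvd
  have hGD : ∀ a : G, ∀ d ∈ D, ⁅a, d⁆ ∈ E := fun a d hd => by
    obtain ⟨j, hj⟩ := hG a
    exact OddLocal.commutator_mem_of_pow_eq_one hrelD hj hd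
  have hrelE : Z.relIndex E ∣ p := by
    have h3 := relIndex_mul_relIndex ⊥ Z E bot_le hZE
    rw [relIndex_bot_left, relIndex_bot_left, hEc, hZ] at h3
    exact (Nat.eq_of_mul_eq_mul_left hp.out.pos (h3.trans (pow_two p))).dvd
  have hGE : ∀ a : G, ∀ e ∈ E, ⁅a, e⁆ ∈ Z := fun a e he => by
    obtain ⟨j, hj⟩ := hG a
    exact OddLocal.commutator_mem_of_pow_eq_one hrelE hj he
  set b₀ := ⁅a₀, d₀⁆ with hb₀def
  have hb₀E : b₀ ∈ E := hGD a₀ d₀ hd₀
  have hb₀D : b₀ ∈ D := hED hb₀E
  have hEgen : E ≤ Z ⊔ zpowers b₀ := by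
    refine (eq_of_le_of_card_ge (sup_le hZE (zpowers_le.mpr hb₀E)) ?_).ge
    rw [hEc, pow_two]
    exact hZ ▸ card_mul_le_of_lt hG (lt_of_le_of_ne le_sup_left
      fun h => hb₀ (h.ge (mem_sup_right (mem_zpowers b₀))))
  set C := centralizer (E : Set G) with hC
  haveI hCn : C.Normal := by rw [hC]; infer_instance
  have hCb : centralizer {b₀} ≤ C := fun w hw => by
    refine mem_centralizer_iff.mpr fun e he => ?_
    have hle : Z ⊔ zpowers b₀ ≤ centralizer {w} := sup_le
      (fun z hz => mem_centralizer_singleton_iff.mpr (hcz z hz w).eq)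
      (zpowers_le.mpr (mem_centralizer_singleton_iff.mpr (mem_centralizer_singleton_iff.mp hw).symm))
    exact mem_centralizer_singleton_iff.mp (hle (hEgen he))
  have hE' : ∀ a ∈ E, ∀ b ∈ E, Commute a b := by
    intro a ha b hb
    haveI := IsPGroup.commutative_of_card_eq_prime_sq (G := E) hEc
    exact congrArg Subtype.val (IsPGroup.commutative_of_card_eq_prime_sq hEc (⟨a, ha⟩ : E) ⟨b, hb⟩)
  have hEC : E ≤ C := fun a ha => mem_centralizer_iff.mpr fun b hb => (hE' b hb a ha).eq
  have hDC : D ⊓ C = E := le_antisymm (fun w hw => sup_le hZE (zpowers_le.mpr hb₀E)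
      (hthree b₀ hb₀D hb₀ w hw.1 (mem_centralizer_iff.mp hw.2 b₀ hb₀E).symm))
    (le_inf hED hEC)
  obtain ⟨u, huD, huE⟩ := SetLike.exists_of_lt (lt_of_le_of_ne hED fun h => by
    rw [h, hO] at hEc
    exact absurd ((Nat.pow_right_injective hp.out.two_le) hEc) (by norm_num))
  have huC : u ∉ C := fun h => huE (hDC.le ⟨huD, h⟩)
  have hindex : C.index ≤ p := by
    have h1 := OddLocal.card_le_of_commutator_mem (L := (⊤ : Subgroup G)) (N := Z) (s := b₀)
      fun a _ => hGE a b₀ hb₀E
    rw [card_top, top_inf_eq, hZ] at h1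
    refine Nat.le_of_mul_le_mul_right ?_ (Nat.card_pos (α := C))
    rw [index_mul_card, Nat.mul_comm p]
    exact h1.trans (Nat.mul_le_mul_right p (Nat.le_of_dvd Nat.card_pos (card_dvd_of_le hCb)))
  have hCu : C ⊔ zpowers u = ⊤ := sup_eq_top_of_index_le hG hindex huC
  have hDgen : D ≤ E ⊔ zpowers u := by
    refine (eq_of_le_of_card_ge (sup_le hED (zpowers_le.mpr huD)) ?_).ge
    rw [hO, pow_succ', ← hEc]
    exact card_mul_le_of_lt hG (lt_of_le_of_ne le_sup_left
      fun h => huE (h.ge (mem_sup_right (mem_zpowers u))))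
  have huc : ∀ w ∈ C, ⁅u, w⁆ ∈ E := fun w hw => by
    rw [← hDC]
    refine Subgroup.mem_inf.mpr ⟨?_, ?_⟩
    · rw [show ⁅u, w⁆ = u * (w * u⁻¹ * w⁻¹) by rw [commutatorElement_def]; group]
      exact mul_mem huD (hDn.conj_mem _ (inv_mem huD) w)
    · rw [commutatorElement_def]
      exact C.mul_mem (hCn.conj_mem w hw u) (C.inv_mem hw)
  have hpu : ∀ w ∈ C, Commute u (w ^ p) := fun w hw => by
    have h1 : u * w * u⁻¹ = ⁅u, w⁆ * w := by rw [commutatorElement_def]; group
    have h2 : Commute ⁅u, w⁆ w := mem_centralizer_iff.mp hw _ (huc w hw)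
    have h3 : u * w ^ p * u⁻¹ = w ^ p := by
      rw [← conj_pow, h1, h2.mul_pow, hexp _ (hED (huc w hw)), one_mul]
    exact mul_inv_eq_iff_eq_mul.mp h3
  have hpZ : ∀ w ∈ C, w ^ p ∈ E → w ^ p ∈ Z := fun w hw hE => by
    refine hcenD _ (hED hE) fun d hd => ?_
    have hle : E ⊔ zpowers u ≤ centralizer {w ^ p} := sup_le
      (fun e he => mem_centralizer_singleton_iff.mpr (hE' _ he _ hE).eq)
      (zpowers_le.mpr (mem_centralizer_singleton_iff.mpr (hpu w hw).eq))
    exact (mem_centralizer_singleton_iff.mp (hle (hDgen hd))).symm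
  have hω : ∀ w ∈ C, w ^ p = 1 → w ∈ E := fun w hw hwp => hDC.le ⟨mem_omega (mem_top w) hwp, hw⟩
  have hCne : ¬ C ≤ E := fun h => by
    refine hb₀ ?_
    have hD : (⊤ : Subgroup G) ≤ D := hCu.ge.trans (sup_le (h.trans hED) (zpowers_le.mpr huD))
    exact hDZ a₀ (hD (mem_top a₀)) d₀ hd₀
  -- `C` is metacyclic, so `C / E` is cyclic
  have hCm : Cfsg.IsMetacyclic C := isMetacyclic_of_omega hp3 (hG.to_subgroup C) (by
    rw [← card_map_of_injective C.subtype_injective, ← omega_eq_map]
    exact (Nat.le_of_dvd Nat.card_pos (card_dvd_of_le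
      ((closure_le _).mpr fun w hw => hω w hw.1 hw.2))).trans hEc.le)
  set ρ := QuotientGroup.mk' (Z.subgroupOf C) with hρ
  have hρm := MaxClass.isMetacyclic_quotient hCm (Z.subgroupOf C)
  set M := ((Cfsg.omegaOne p (⊤ : Subgroup (C ⧸ Z.subgroupOf C))).comap ρ).map C.subtype with hM
  have hMmem : ∀ w ∈ C, w ^ p ∈ E → w ∈ M := fun w hw hE => by
    refine ⟨⟨w, hw⟩, mem_omega (mem_top _) ?_, rfl⟩
    rw [hρ, ← map_pow]
    exact (QuotientGroup.eq_one_iff _).mpr (mem_subgroupOf.mpr (by simpa using hpZ w hw hE))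
  have hMc : Nat.card M ≤ p ^ 3 := by
    rw [hM, card_map_of_injective C.subtype_injective]
    have h1 := card_omega_metacyclic hp2 ((hG.to_subgroup C).to_quotient _) hρm
    set O := Cfsg.omegaOne p (⊤ : Subgroup (C ⧸ Z.subgroupOf C)) with hOdef
    have hker : ρ.ker ≤ O.comap ρ := fun k hk => by
      rw [mem_comap, MonoidHom.mem_ker.mp hk]; exact one_mem _
    have h3 := relIndex_mul_relIndex ⊥ ρ.ker (O.comap ρ) bot_le hker
    rw [relIndex_bot_left, relIndex_bot_left, relIndex_ker,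
      map_comap_eq_self_of_surjective (QuotientGroup.mk'_surjective _), hρ,
      QuotientGroup.ker_mk', Coprime.card_subgroupOf (hZE.trans hEC), hZ] at h3
    rw [← hρ] at h3
    rw [← h3, pow_succ']
    exact Nat.mul_le_mul_left p h1
  set π := QuotientGroup.mk' (E.subgroupOf C) with hπ
  haveI hcycQ : IsCyclic (C ⧸ E.subgroupOf C) := by
    have hMimg : Nat.card ((M.subgroupOf C).map π) ≤ p := by
      by_contra hlt
      have hle : E ≤ M := fun e he => hMmem e (hEC he) (by rw [hexp e (hED he)]; exact one_mem _)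
      have hMC : M ≤ C := map_subtype_le _
      have hk : π.ker ≤ M.subgroupOf C := by
        rw [hπ, QuotientGroup.ker_mk']; exact comap_mono hle
      have h3 := relIndex_mul_relIndex ⊥ π.ker (M.subgroupOf C) bot_le hk
      rw [relIndex_bot_left, relIndex_bot_left, relIndex_ker, hπ, QuotientGroup.ker_mk',
        Coprime.card_subgroupOf hEC, hEc, Coprime.card_subgroupOf hMC, ← hπ] at h3
      have : p ^ 2 * p < Nat.card M := by
        rw [← h3]
        exact (Nat.mul_lt_mul_left (pow_pos hp.out.pos 2)).mpr (not_le.mp hlt)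
      rw [← pow_succ] at this
      exact absurd hMc (not_le.mpr this)
    have hQ : IsPGroup p (C ⧸ E.subgroupOf C) := (hG.to_subgroup C).to_quotient _
    have := isCyclic_of_omega_small (G := C ⧸ E.subgroupOf C) hp2 (K := ⊤)
      (hQ.to_subgroup ⊤) hMimg fun q _ hq => by
        obtain ⟨w, rfl⟩ := QuotientGroup.mk'_surjective _ q
        refine mem_map_of_mem π (mem_subgroupOf.mpr (hMmem w w.2 ?_))
        rw [← map_pow] at hq
        simpa using mem_subgroupOf.mp ((QuotientGroup.eq_one_iff _).mp hq)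
    exact isCyclic_of_surjective Subgroup.topEquiv.toMonoidHom Subgroup.topEquiv.surjective
  obtain ⟨q, hq⟩ := IsCyclic.exists_generator (α := C ⧸ E.subgroupOf C)
  obtain ⟨c, hcq⟩ := QuotientGroup.mk'_surjective (E.subgroupOf C) q
  have hCgen : E ⊔ zpowers (c : G) = C := by
    refine le_antisymm (sup_le hEC (zpowers_le.mpr c.2)) fun w hw => ?_
    obtain ⟨i, hi⟩ := mem_zpowers_iff.mp (hq (π ⟨w, hw⟩))
    rw [← inv_mul_cancel_right w ((c : G) ^ i)]
    refine mul_mem_sup ?_ (zpow_mem (mem_zpowers _) i)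
    rw [← hcq, ← hπ, ← map_zpow] at hi
    have : (⟨w, hw⟩ : C) * (c ^ i)⁻¹ ∈ E.subgroupOf C := by
      rw [← QuotientGroup.eq_one_iff, ← QuotientGroup.mk'_apply, map_mul, map_inv, ← hπ, hi,
        mul_inv_cancel]
    simpa [mem_subgroupOf] using this
  have hcE : (c : G) ∉ E := fun h => hCne (hCgen.ge.trans (sup_le le_rfl (zpowers_le.mpr h)))
  obtain ⟨j, hj⟩ := hG (c : G)
  obtain ⟨j', -, hj'⟩ := (Nat.dvd_prime_pow hp.out).mp (orderOf_dvd_of_pow_eq_one hj)
  obtain ⟨k, rfl⟩ : ∃ k, j' = k + 1 := ⟨j' - 1, by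
    rcases j' with _ | j'
    · rw [pow_zero, orderOf_eq_one_iff] at hj'
      exact absurd (hj' ▸ one_mem E) hcE
    · omega⟩
  have hk : 1 ≤ k := by
    by_contra h
    refine hcE (hω _ c.2 ?_)
    rw [← pow_orderOf_eq_one (c : G), hj', show k + 1 = 1 by omega, pow_one]
  set z := (c : G) ^ p ^ k with hz
  have hzp : z ^ p = 1 := by
    rw [hz, ← pow_mul, ← pow_succ, ← hj', pow_orderOf_eq_one]
  have hz1 : z ≠ 1 := fun h => by
    have h1 := orderOf_dvd_of_pow_eq_one h
    rw [hj'] at h1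
    exact absurd ((Nat.pow_dvd_pow_iff_le_right hp.out.one_lt).mp h1) (by omega)
  have hzE : z ∈ E := hω _ (pow_mem c.2 _) hzp
  have hzZ : z ∈ Z := by
    have hzeq : z = ((c : G) ^ p ^ (k - 1)) ^ p := by
      rw [hz, ← pow_mul, ← pow_succ, Nat.sub_add_cancel hk]
    rw [hzeq] at hzE ⊢
    exact hpZ _ (pow_mem c.2 _) hzE
  have hcarG : Nat.card G = p ^ (k + 3) := by
    have hEz : E ⊓ zpowers (c : G) = zpowers z := by
      refine le_antisymm ?_ (zpowers_le.mpr ⟨hzE, pow_mem (mem_zpowers _) _⟩)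
      intro w hw
      haveI hTc : IsCyclic (zpowers (c : G)) := isCyclic_zpowers _
      have hwp := hexp w (hED hw.1)
      obtain ⟨i, rfl⟩ := mem_zpowers_iff.mp hw.2
      rw [← zpow_natCast, ← zpow_mul, ← orderOf_dvd_iff_zpow_eq_one, hj', pow_succ] at hwp
      push_cast at hwp
      obtain ⟨t, rfl⟩ := (mul_dvd_mul_iff_right (by exact_mod_cast hp.out.ne_zero)).mp hwp
      rw [zpow_mul, show ((p : ℤ) ^ k) = ((p ^ k : ℕ) : ℤ) by push_cast; ring, zpow_natCast]
      exact zpow_mem (mem_zpowers z) t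
    have h6 := Core.card_sup_mul_card_inf (zpowers (c : G)) E
    rw [sup_comm, hCgen, inf_comm, hEz, Nat.card_zpowers, Nat.card_zpowers,
      orderOf_eq_prime hzp hz1, hj', hEc] at h6
    have hCc : Nat.card C = p ^ (k + 2) := Nat.eq_of_mul_eq_mul_right hp.out.pos
      (h6.trans (by ring))
    obtain ⟨i, hi⟩ := hG.index C
    have hi1 : i = 1 := by
      rw [hi] at hindex
      have h7 : i ≤ 1 := (Nat.pow_le_pow_iff_right hp.out.one_lt).mp (hindex.trans_eq (pow_one p).symm)
      rcases i with _ | i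
      · exact absurd (index_eq_one.mp (hi.trans (pow_zero p)) ▸ mem_top u) huC
      · omega
    rw [← C.index_mul_card, hi, hi1, hCc]
    ring
  have hnc : ¬ Commute u ⁅u, (c : G)⁆ := fun h => by
    have hb : ⁅u, (c : G)⁆ ∈ Z := by
      refine hcenD _ (hED (huc _ c.2)) fun d hd => ?_
      have hle : E ⊔ zpowers u ≤ centralizer {⁅u, (c : G)⁆} := sup_le
        (fun e he => mem_centralizer_singleton_iff.mpr (hE' _ he _ (huc _ c.2)).eq)
        (zpowers_le.mpr (mem_centralizer_singleton_iff.mpr h.eq))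
      exact (mem_centralizer_singleton_iff.mp (hle (hDgen hd))).symm
    set f := QuotientGroup.mk' Z with hf
    refine hb₀ ?_
    have hgen : ∀ g : G, Commute (f g) (f d₀) := by
      intro g
      have hle : C ⊔ zpowers u ≤ (centralizer ({f d₀} : Set (G ⧸ Z))).comap f := by
        have hone : ∀ v w : G, ⁅v, w⁆ ∈ Z → f v * f w = f w * f v := fun v w hvw => by
          rw [← commutatorElement_eq_one_iff_mul_comm, ← map_commutatorElement]
          exact (QuotientGroup.eq_one_iff _).mpr hvw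
        have hdd : ∀ v : G, f v * f u = f u * f v → (∀ e ∈ E, f v * f e = f e * f v) →
            f v * f d₀ = f d₀ * f v := fun v hvu hve => by
          have : E ⊔ zpowers u ≤ (centralizer ({f v} : Set (G ⧸ Z))).comap f := sup_le
            (fun e he => mem_centralizer_singleton_iff.mpr (hve e he).symm)
            (zpowers_le.mpr (mem_centralizer_singleton_iff.mpr hvu.symm))
          exact (mem_centralizer_singleton_iff.mp (this (hDgen hd₀))).symm
        have hce : ∀ v : G, ∀ e ∈ E, f v * f e = f e * f v := fun v e he => hone v e (hGE v e he)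
        refine sup_le (hCgen.ge.trans (sup_le (fun e he => mem_centralizer_singleton_iff.mpr
          (hce d₀ e he).symm) (zpowers_le.mpr (mem_centralizer_singleton_iff.mpr ?_))))
          (zpowers_le.mpr (mem_centralizer_singleton_iff.mpr ?_))
        · exact hdd _ (hone u (c : G) hb).symm (hce _)
        · exact hdd _ rfl (hce _)
      exact mem_centralizer_singleton_iff.mp (hle (hCu.ge (mem_top g)))
    rw [hb₀def, ← QuotientGroup.eq_one_iff, ← QuotientGroup.mk'_apply, map_commutatorElement,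
      commutatorElement_eq_one_iff_mul_comm]
    exact (hgen a₀).eq
  refine ⟨E, u, c, k, hEn, hEc, hexp u huD, fun e he => hexp e (hED he),
    fun e he => mem_centralizer_iff.mp c.2 e he, hE', hj', hk, hcarG, by rw [hCgen]; exact hCu,
    by rw [hCgen]; exact huC, by rw [hCgen]; exact hCn, hzE, (hcz z hzZ u).symm, huc _ c.2, hnc,
    hGD, a₀, d₀, hd₀, fun h => hb₀ ?_⟩
  refine hcenD _ hb₀D fun d hd => ?_
  have hle : E ⊔ zpowers u ≤ centralizer {b₀} := sup_le
    (fun e he => mem_centralizer_singleton_iff.mpr (hE' _ he _ hb₀E).eq)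
    (zpowers_le.mpr (mem_centralizer_singleton_iff.mpr h.eq))
  exact (mem_centralizer_singleton_iff.mp (hle (hDgen hd))).symm

end Cfsg.Agent.RankTwo
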