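import Cfsg.Agent.RankTwo.Huppert

/-!
`p > 3`: a `p`-group with at most `p ^ 2` elements generated by those of order `p` is metacyclic
(Huppert), and in rank at most two the elements of order dividing `p` form a subgroup of exponent
`p` and order at most `p ^ 3` (Blackburn).
-/

set_option autoImplicit false
set_option linter.unusedSectionVars false
set_option linter.style.haveILetI false

namespace Cfsg.Agent.RankTwo

open Subgroup
open scoped commutatorElement

universe u

variable {p : ℕ} [hp : Fact p.Prime] {G : Type u} [Group G]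

variable [Finite G]

theorem choose_two_kill (hp2 : p ≠ 2) {c : G} (hc : c ^ p = 1) : c ^ (p.choose 2) = 1 := by
  obtain ⟨k, hk⟩ := hp.out.dvd_choose_self two_ne_zero
    (lt_of_le_of_ne hp.out.two_le (Ne.symm hp2))
  rw [hk, pow_mul, hc, one_pow]

theorem pow_eq_one_of_generators (hp2 : p ≠ 2) (hcl : commutator G ≤ center G)
    (htop : Cfsg.omegaOne p (⊤ : Subgroup G) = ⊤) (g : G) : g ^ p = 1 := by
  have hcen : ∀ a b c : G, Commute ⁅a, b⁆ c := fun a b c => (mem_center_iff.mp (hcl (by
    rw [_root_.commutator_def]; exact commutator_mem_commutator (mem_top a) (mem_top b))) c).symm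
  have hg : g ∈ Cfsg.omegaOne p (⊤ : Subgroup G) := htop.ge (mem_top g)
  induction hg using closure_induction with
  | mem z hz => exact hz.2
  | one => exact one_pow p
  | inv a _ iha => rw [inv_pow, iha, inv_one]
  | mul a b _ _ iha ihb =>
    have hc : ⁅b, a⁆ ^ p = 1 := by
      have h1 : b * a * b⁻¹ = ⁅b, a⁆ * a := by rw [commutatorElement_def]; group
      have h2 := congrArg (· ^ p) h1
      simp only [conj_pow, iha, mul_one, mul_inv_cancel, (hcen b a a).mul_pow] at h2
      exact h2.symm
    rw [Fusion.mul_pow_of_commute_commutator (hcen b a a) (hcen b a b) p, iha, ihb,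
      choose_two_kill hp2 hc, one_mul, one_mul]

theorem card_le_of_killed (hG : IsPGroup p G) {Z : Subgroup G} (hZ : Nat.card Z = p)
    (hcl : (⊤ : Subgroup G).lowerCentralSeries (p - 1) = ⊥)
    (hexp : ∀ x ∈ commutator G, x ^ p = 1) (hpow : ∀ x : G, x ^ p ∈ Z) :
    Nat.card G ≤ p * Nat.card (Cfsg.omegaOne p (⊤ : Subgroup G)) := by
  have hmul : ∀ a b : G, (a * b) ^ p = a ^ p * b ^ p := fun a b => by
    simpa using Regular.PolySeq.mul_pow_eq hp.out one_ne_zero hcl (by simpa using hexp) a b
  let f : G →* Z := MonoidHom.mk' (fun x => ⟨x ^ p, hpow x⟩) fun a b => Subtype.ext (hmul a b)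
  have hker : f.ker ≤ Cfsg.omegaOne p (⊤ : Subgroup G) := fun x hx =>
    mem_omega (mem_top x) (congrArg Subtype.val (MonoidHom.mem_ker.mp hx) :)
  rw [← f.ker.index_mul_card, index_ker]
  exact Nat.mul_le_mul ((Nat.le_of_dvd Nat.card_pos (card_subgroup_dvd_card f.range)).trans hZ.le)
    (Nat.le_of_dvd Nat.card_pos (card_dvd_of_le hker))

theorem card_omega_quotient (hp3 : 3 < p) (hG : IsPGroup p G)
    (hsub : ∀ H : Subgroup G, H ≠ ⊤ → Cfsg.IsMetacyclic H)
    (hO : Nat.card (Cfsg.omegaOne p (⊤ : Subgroup G)) ≤ p ^ 2)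
    {Z : Subgroup G} [Z.Normal] (hZc : Z ≤ center G) (hZ : Nat.card Z = p) :
    Nat.card (Cfsg.omegaOne p (⊤ : Subgroup (G ⧸ Z))) ≤ p ^ 2 := by
  have hp2 : p ≠ 2 := by omega
  set π := QuotientGroup.mk' Z with hπ
  have hsurj : Function.Surjective π := QuotientGroup.mk'_surjective Z
  have hQ : IsPGroup p (G ⧸ Z) := hG.to_quotient Z
  have hQsub : ∀ H : Subgroup (G ⧸ Z), H ≠ ⊤ → Cfsg.IsMetacyclic H := fun H hH =>
    isMetacyclic_of_surjective (hsub (H.comap π)
      fun h => hH (comap_injective hsurj (h.trans (comap_top π).symm)))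
      (π.subgroupComap H) (π.subgroupComap_surjective_of_surjective H hsurj)
  set O := Cfsg.omegaOne p (⊤ : Subgroup (G ⧸ Z)) with hO'
  by_cases htop : O = ⊤
  swap
  · have h1 := card_omega_metacyclic hp2 (hQ.to_subgroup O) (hQsub O htop)
    have h2 : Cfsg.omegaOne p (⊤ : Subgroup O) = ⊤ := by
      refine map_injective O.subtype_injective ?_
      rw [← omega_eq_map, ← MonoidHom.range_eq_map, range_subtype]
      exact le_antisymm (omega_le O)
        ((closure_le _).mpr fun x hx => mem_omega (subset_closure hx) hx.2)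
    rwa [h2, card_top] at h1
  -- `|G / Z| ≤ p ^ 3`
  have hQ3 : Nat.card (G ⧸ Z) ≤ p ^ 3 := by
    by_cases hcomm : ∀ x y : G ⧸ Z, x ^ p = 1 → y ^ p = 1 → x * y = y * x
    · by_cases htriv : (⊥ : Subgroup (G ⧸ Z)) = ⊤
      · rw [← card_top (G := G ⧸ Z), ← htriv, card_bot]
        exact Nat.one_le_pow _ _ hp.out.pos
      have hab : ∀ g : G ⧸ Z, g ^ p = 1 := by
        have hc : commutator (G ⧸ Z) ≤ center (G ⧸ Z) := by
          have h1 : ∀ x y : G ⧸ Z, x * y = y * x := by
            have hle : O ≤ centralizer (O : Set (G ⧸ Z)) := by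
              rw [hO', Cfsg.omegaOne, closure_le, centralizer_closure]
              exact fun x hx => mem_centralizer_iff.mpr fun y hy => hcomm y x hy.2 hx.2
            intro x y
            exact (mem_centralizer_iff.mp (hle (htop.ge (mem_top y))) x (htop.ge (mem_top x)))
          intro x _
          exact mem_center_iff.mpr fun g => h1 g x
        exact pow_eq_one_of_generators hp2 hc htop
      obtain ⟨M, hM, -⟩ := (eq_top_or_exists_le_coatom (⊥ : Subgroup (G ⧸ Z))).resolve_left htriv
      have hM2 := card_le_of_exponent_metacyclic hp2 (hQ.to_subgroup M) (hQsub M hM.1)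
        fun x => Subtype.ext (by simpa using hab x)
      obtain ⟨x, -, hx⟩ := SetLike.exists_of_lt (lt_top_iff_ne_top.mpr hM.1)
      haveI := hQ.isNilpotent
      haveI : M.Normal := Subgroup.NormalizerCondition.normal_of_coatom M
        (Group.normalizerCondition_of_isNilpotent) hM
      have htop' : M ⊔ zpowers x = ⊤ := hM.2 _ (lt_of_le_of_ne le_sup_left
        fun e => hx (e ▸ mem_sup_right (mem_zpowers x)))
      have h3 := card_sup_zpowers_le (E := M) (y := x) (hab x)
      rw [htop', card_top] at h3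
      calc _ ≤ _ := h3
        _ ≤ p ^ 2 * p := Nat.mul_le_mul_right _ hM2
        _ = p ^ 3 := (pow_succ p 2).symm
    push Not at hcomm
    obtain ⟨x, y, hx, hy, hxy⟩ := hcomm
    have hgen : ∀ H : Subgroup (G ⧸ Z), x ∈ H → y ∈ H → H = ⊤ := fun H hxH hyH => by
      by_contra hH
      exact hxy (congrArg Subtype.val (commute_of_metacyclic hp2 (hQ.to_subgroup H) (hQsub H hH)
        (x := (⟨x, hxH⟩ : H)) (y := ⟨y, hyH⟩) (Subtype.ext (by simpa using hx))
        (Subtype.ext (by simpa using hy))))
    have hxtop : zpowers x ≠ ⊤ := fun h => hxy (by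
      obtain ⟨i, hi⟩ := mem_zpowers_iff.mp (h.symm ▸ mem_top y : y ∈ zpowers x)
      rw [← hi]
      exact ((Commute.refl x).zpow_right i).eq)
    obtain ⟨M, hM, hxM, hMn⟩ := exists_coatom_normal hQ hxtop
    haveI := hMn
    have hE := card_omega_metacyclic hp2 (hQ.to_subgroup M) (hQsub M hM)
    rw [← card_map_of_injective M.subtype_injective, ← omega_eq_map] at hE
    have htop' : Cfsg.omegaOne p M ⊔ zpowers y = ⊤ := hgen _
      (mem_sup_left (mem_omega (hxM (mem_zpowers x)) hx)) (mem_sup_right (mem_zpowers y))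
    have h3 := card_sup_zpowers_le (E := Cfsg.omegaOne p M) (y := y) hy
    rw [htop', card_top] at h3
    calc _ ≤ _ := h3
      _ ≤ p ^ 2 * p := Nat.mul_le_mul_right _ hE
      _ = p ^ 3 := (pow_succ p 2).symm
  have hQc := commutator_le_center_of_card_le hQ hQ3
  have hQe := pow_eq_one_of_generators hp2 hQc htop
  have hpow : ∀ g : G, g ^ p ∈ Z := fun g => (QuotientGroup.eq_one_iff _).mp (by
    rw [QuotientGroup.mk_pow]; exact hQe _)
  have hcen : ∀ z ∈ Z, ∀ g : G, Commute z g := fun z hz g =>
    (mem_center_iff.mp (hZc hz) g).symm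
  have hlcs : ∀ (c g : G), c ∈ commutator G → ⁅c, g⁆ ∈ Z := by
    intro c g hc
    rw [← QuotientGroup.eq_one_iff, ← QuotientGroup.mk'_apply, map_commutatorElement, ← hπ,
      commutatorElement_eq_one_iff_mul_comm]
    have : π c ∈ commutator (G ⧸ Z) := by
      rw [_root_.commutator_def, ← Subgroup.map_top_of_surjective π hsurj, ← map_commutator]
      exact mem_map_of_mem π (by rwa [← _root_.commutator_def])
    exact (mem_center_iff.mp (hQc this) (π g)).symm
  have hcp : ∀ x y : G, ⁅x, y⁆ ^ p = 1 := by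
    intro x y
    have hxy : ⁅x, y⁆ ∈ commutator G := by
      rw [_root_.commutator_def]; exact commutator_mem_commutator (mem_top x) (mem_top y)
    have h1 : x * y * x⁻¹ = ⁅x, y⁆ * y := by rw [commutatorElement_def]; group
    have hd : ⁅y, ⁅x, y⁆⁆ ∈ Z := by
      rw [← commutatorElement_inv]; exact inv_mem (hlcs _ y hxy)
    have hdp : ⁅y, ⁅x, y⁆⁆ ^ p = 1 := by
      have h3 := pow_card_eq_one' (x := (⟨_, hd⟩ : Z))
      rw [hZ] at h3
      simpa using congrArg Subtype.val h3
    have h2 := congrArg (· ^ p) h1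
    simp only [conj_pow] at h2
    rw [← (hcen _ (hpow y) x).eq, mul_inv_cancel_right,
      Fusion.mul_pow_of_commute_commutator (hcen _ hd _) (hcen _ hd _) p,
      choose_two_kill hp2 hdp, mul_one] at h2
    exact mul_eq_right.mp h2.symm
  have h2 : (⊤ : Subgroup G).lowerCentralSeries 2 ≤ Z := by
    rw [Subgroup.lowerCentralSeries_succ, Subgroup.top_lowerCentralSeries_one, commutator_le]
    exact fun c hc g _ => hlcs c g hc
  have h3 : (⊤ : Subgroup G).lowerCentralSeries 3 = ⊥ := by
    rw [Subgroup.lowerCentralSeries_succ, eq_bot_iff, commutator_le]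
    intro c hc g _
    rw [mem_bot, commutatorElement_eq_one_iff_commute]
    exact hcen c (h2 hc) g
  have hexp : ∀ c ∈ commutator G, c ^ p = 1 := by
    have hab : ∀ a ∈ commutator G, ∀ b ∈ commutator G, Commute a b := by
      intro a ha b hb
      rw [← commutatorElement_eq_one_iff_commute, ← mem_bot, ← h3]
      refine Regular.PolySeq.lcs_commutator_le 1 1 ?_
      rw [Subgroup.top_lowerCentralSeries_one]
      exact commutator_mem_commutator ha hb
    intro c hc
    have hc' : c ∈ closure {g : G | ∃ a b : G, ⁅a, b⁆ = g} := by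
      rw [← commutatorSet_def, ← commutator_eq_closure]; exact hc
    induction hc' using closure_induction with
    | mem z hz => obtain ⟨a, b, rfl⟩ := hz; exact hcp a b
    | one => exact one_pow p
    | inv a _ iha => rw [inv_pow, iha (by simpa using hc), inv_one]
    | mul a b ha hb iha ihb =>
      have ha' : a ∈ commutator G := by rw [commutator_eq_closure, commutatorSet_def]; exact ha
      have hb' : b ∈ commutator G := by rw [commutator_eq_closure, commutatorSet_def]; exact hb
      rw [(hab a ha' b hb').mul_pow, iha ha', ihb hb', one_mul]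
  have h4 := card_le_of_killed hG hZ (le_bot_iff.mp
    (h3 ▸ Subgroup.lowerCentralSeries_antitone _ (show 3 ≤ p - 1 by omega))) hexp hpow
  have h5 := Z.index_mul_card
  rw [index_eq_card, hZ] at h5
  refine (Nat.le_of_dvd Nat.card_pos (card_subgroup_dvd_card O)).trans ?_
  refine Nat.le_of_mul_le_mul_right ?_ hp.out.pos
  rw [h5]
  exact h4.trans ((Nat.mul_le_mul_left p hO).trans_eq (by ring))

omit G [Group G] [Finite G] in
theorem isMetacyclic_of_omega_aux (hp3 : 3 < p) : ∀ (n : ℕ) (G : Type u) [Group G] [Finite G],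
    Nat.card G = n → IsPGroup p G → Nat.card (Cfsg.omegaOne p (⊤ : Subgroup G)) ≤ p ^ 2 →
    Cfsg.IsMetacyclic G := by
  intro n
  induction n using Nat.strong_induction_on with
  | _ n ih =>
  intro G _ _ hn hG hO
  have hp2 : p ≠ 2 := by omega
  set P := Cfsg.powerClosure p 1 (⊤ : Subgroup G) with hP
  haveI hPn : P.Normal := powers_normal
  refine isMetacyclic_of_index_powers hp2 hG ?_
  by_cases hPb : P = ⊥
  · have hexp : ∀ x : G, x ^ p = 1 := fun x => mem_bot.mp (hPb ▸ pow_mem_powers x)
    rw [omega_eq_top hexp, card_top] at hO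
    rwa [← hP, hPb, index_bot]
  obtain ⟨Z, hZP, hZc, hZn, hZ⟩ := Fusion.exists_central_card_prime hG P hPb
  haveI := hZn
  have hlt : Nat.card (G ⧸ Z) < n := by
    rw [← hn, ← index_eq_card, ← Z.index_mul_card]
    exact lt_mul_of_one_lt_right (Nat.pos_of_ne_zero index_ne_zero_of_finite)
      (hZ ▸ hp.out.one_lt)
  have hsub : ∀ H : Subgroup G, H ≠ ⊤ → Cfsg.IsMetacyclic H := fun H hH =>
    ih _ (hn ▸ Core.card_lt_of_ne_top hH) H rfl (hG.to_subgroup H)
      ((card_omega_subgroup H).trans hO)
  have hmQ := ih _ hlt (G ⧸ Z) rfl (hG.to_quotient Z)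
    (card_omega_quotient hp3 hG hsub hO hZc hZ)
  haveI hP'n : (P.map (QuotientGroup.mk' Z)).Normal :=
    hPn.map _ (QuotientGroup.mk'_surjective Z)
  have hm' := MaxClass.isMetacyclic_quotient hmQ (P.map (QuotientGroup.mk' Z))
  have h1 := card_le_of_exponent_metacyclic hp2 ((hG.to_quotient Z).to_quotient _) hm' (fun q => by
    obtain ⟨q, rfl⟩ := QuotientGroup.mk'_surjective _ q
    obtain ⟨x, rfl⟩ := QuotientGroup.mk'_surjective Z q
    rw [← map_pow, ← map_pow]
    exact (QuotientGroup.eq_one_iff _).mpr (mem_map_of_mem _ (pow_mem_powers x)))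
  rw [← index_eq_card, index_map_eq P (QuotientGroup.mk'_surjective Z)
    (by rw [QuotientGroup.ker_mk']; exact hZP)] at h1
  exact h1

/-- Huppert: for `p > 3`, a `p`-group with `|Ω₁| ≤ p ^ 2` is metacyclic. -/
theorem isMetacyclic_of_omega (hp3 : 3 < p) (hG : IsPGroup p G)
    (hO : Nat.card (Cfsg.omegaOne p (⊤ : Subgroup G)) ≤ p ^ 2) : Cfsg.IsMetacyclic G :=
  isMetacyclic_of_omega_aux hp3 _ G rfl hG hO

end Cfsg.Agent.RankTwo
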