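import Cfsg.Agent.RankTwo.Omega
import Cfsg.Agent.OddLocal.StabFactors
import Cfsg.Prelude.Def_CaseTheorems

/-!
Blackburn, `p > 3`: in a `p`-group of rank at most two the elements of order dividing `p` form a
subgroup of exponent `p` and order at most `p ^ 3`.
-/

set_option autoImplicit false
set_option linter.unusedSectionVars false
set_option linter.style.haveILetI false

namespace Cfsg.Agent.RankTwo

open Subgroup
open scoped commutatorElement

universe u

variable {p : ℕ} [hp : Fact p.Prime] {G : Type u} [Group G]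

theorem pRankLE_subgroup (hr : Cfsg.PRankLE p 2 G) (H : Subgroup G) : Cfsg.PRankLE p 2 H := by
  intro A hA he
  have h1 := hr (A.map H.subtype) ⟨⟨?_⟩⟩ ?_
  · rwa [card_map_of_injective H.subtype_injective] at h1
  · rintro ⟨_, a, ha, rfl⟩ ⟨_, b, hb, rfl⟩
    exact Subtype.ext (congrArg H.subtype (congrArg Subtype.val
      (hA.is_comm.comm (⟨a, ha⟩ : A) ⟨b, hb⟩)) :)
  · rintro _ ⟨a, ha, rfl⟩
    rw [← map_pow, he a ha, map_one]

theorem card_le_of_rank (hr : Cfsg.PRankLE p 2 G) {A : Subgroup G}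
    (hc : ∀ a ∈ A, ∀ b ∈ A, a * b = b * a) (he : ∀ a ∈ A, a ^ p = 1) : Nat.card A ≤ p ^ 2 :=
  hr A ⟨⟨fun a b => Subtype.ext (hc a a.2 b b.2)⟩⟩ he

variable [Finite G]

/-- A group of exponent `p` and rank at most two has order at most `p ^ 3`. -/
theorem card_le_of_exponent (hG : IsPGroup p G) (hr : Cfsg.PRankLE p 2 G)
    (he : ∀ g : G, g ^ p = 1) : Nat.card G ≤ p ^ 3 := by
  by_cases htriv : (⊥ : Subgroup G) = ⊤
  · rw [← card_top (G := G), ← htriv, card_bot]
    exact Nat.one_le_pow _ _ hp.out.pos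
  obtain ⟨Z, -, hZc, hZn, hZ⟩ := Fusion.exists_central_card_prime hG (⊤ : Subgroup G) (Ne.symm htriv)
  haveI := hZn
  by_cases hZtop : Z = ⊤
  · rw [← card_top (G := G), ← hZtop, hZ]
    exact Nat.le_self_pow (by norm_num) p
  obtain ⟨E, hEn, hZE, -, hEc, hEZ⟩ :=
    Fusion.exists_normal_card_succ hG Z ⊤ (lt_top_iff_ne_top.mpr hZtop)
  rw [hZ, ← pow_two] at hEc
  obtain ⟨x, hxE, hxZ⟩ := SetLike.exists_of_lt (lt_of_le_of_ne hZE fun h => by
    rw [h, hEc] at hZ
    exact absurd hZ (ne_of_gt (lt_self_pow₀ hp.out.one_lt (by norm_num))))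
  have hk := OddLocal.card_le_of_commutator_mem (L := (⊤ : Subgroup G)) (N := Z) (s := x)
    fun k _ => by
      rw [← commutatorElement_inv]
      exact inv_mem (hEZ (commutator_mem_commutator hxE (mem_top k)))
  rw [card_top, top_inf_eq, hZ] at hk
  have hEx : E ≤ Z ⊔ zpowers x := by
    refine (eq_of_le_of_card_ge (sup_le hZE (zpowers_le.mpr hxE)) ?_).ge
    rw [hEc, pow_two]
    exact hZ ▸ card_mul_le_of_lt hG (lt_of_le_of_ne le_sup_left
      fun h => hxZ (h.ge (mem_sup_right (mem_zpowers x))))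
  have hCx : centralizer {x} ≤ E := by
    intro w hw
    by_contra hwE
    have hwc : E ≤ centralizer {w} := hEx.trans (sup_le (fun z hz => mem_centralizer_singleton_iff.mpr
      ((mem_center_iff.mp (hZc hz) w).symm)) (zpowers_le.mpr (mem_centralizer_singleton_iff.mpr
      (mem_centralizer_singleton_iff.mp hw).symm)))
    have hall : ∀ a ∈ closure ((E : Set G) ∪ {w}), ∀ b ∈ closure ((E : Set G) ∪ {w}),
        a * b = b * a := by
      have hle : closure ((E : Set G) ∪ {w}) ≤
          centralizer (closure ((E : Set G) ∪ {w}) : Set G) := by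
        rw [closure_le, centralizer_closure]
        rintro a (ha | rfl) <;> refine mem_centralizer_iff.mpr ?_
        · rintro b (hb | rfl)
          · have hEc' : E ≤ centralizer {a} := hEx.trans (sup_le
              (fun z hz => mem_centralizer_singleton_iff.mpr ((mem_center_iff.mp (hZc hz) a).symm))
              (zpowers_le.mpr (mem_centralizer_singleton_iff.mpr ?_)))
            · exact mem_centralizer_singleton_iff.mp (hEc' hb)
            · have hxall : E ≤ centralizer {x} := hEx.trans (sup_le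
                (fun z hz => mem_centralizer_singleton_iff.mpr ((mem_center_iff.mp (hZc hz) x).symm))
                (zpowers_le.mpr (mem_centralizer_singleton_iff.mpr rfl)))
              exact (mem_centralizer_singleton_iff.mp (hxall ha)).symm
          · exact (mem_centralizer_singleton_iff.mp (hwc ha)).symm
        · rintro b (hb | rfl)
          · exact mem_centralizer_singleton_iff.mp (hwc hb)
          · rfl
      exact fun a ha b hb => mem_centralizer_iff.mp (hle hb) a ha
    have h1 := card_le_of_rank hr hall fun a _ => he a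
    have h2 := card_mul_le_of_lt hG (lt_of_le_of_ne
      (fun a ha => subset_closure (Or.inl ha) : E ≤ closure ((E : Set G) ∪ {w}))
      fun h => hwE (h ▸ subset_closure (Or.inr rfl)))
    rw [hEc, ← pow_succ'] at h2
    exact absurd ((Nat.pow_le_pow_iff_right hp.out.one_lt).mp (h2.trans h1)) (by norm_num)
  calc Nat.card G ≤ _ := hk
    _ ≤ p ^ 2 * p := Nat.mul_le_mul_right _
        ((Nat.le_of_dvd Nat.card_pos (card_dvd_of_le hCx)).trans hEc.le)
    _ = p ^ 3 := (pow_succ p 2).symm

theorem lcs_three_eq_bot (hG : IsPGroup p G) (h : Nat.card G ≤ p ^ 4) :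
    (⊤ : Subgroup G).lowerCentralSeries 3 = ⊥ := by
  by_contra hne
  have h2 : (⊤ : Subgroup G).lowerCentralSeries 2 ≠ ⊥ := fun h2 => hne (le_bot_iff.mp
    (h2 ▸ Subgroup.lowerCentralSeries_antitone _ (by norm_num)))
  have h1 : (⊤ : Subgroup G).lowerCentralSeries 1 ≠ ⊥ := fun h1 => hne (le_bot_iff.mp
    (h1 ▸ Subgroup.lowerCentralSeries_antitone _ (by norm_num)))
  have s1 := MaxClass.lcs_step hG 1 h1
  have s2 := MaxClass.lcs_step hG 2 h2
  rw [Subgroup.top_lowerCentralSeries_one] at s1 h1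
  have s0 := Nat.le_of_dvd (Nat.pos_of_ne_zero index_ne_zero_of_finite)
    (MaxClass.sq_dvd_index_commutator hG h1)
  have s3 : p ≤ Nat.card ((⊤ : Subgroup G).lowerCentralSeries 3) :=
    Nat.le_of_dvd Nat.card_pos (((hG.to_subgroup _).card_eq_or_dvd).resolve_left
      fun h => hne (card_eq_one.mp h))
  have hi := (commutator G).index_mul_card
  have : p ^ 5 ≤ Nat.card G := by
    rw [← hi, show p ^ 5 = p ^ 2 * (p * (p * p)) by ring]
    exact Nat.mul_le_mul s0 (le_trans (Nat.mul_le_mul_left p (le_trans (Nat.mul_le_mul_left p s3) s2)) s1)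
  exact absurd ((Nat.pow_le_pow_iff_right hp.out.one_lt).mp (this.trans h)) (by norm_num)

omit G [Group G] [Finite G] in
theorem omega_exponent_aux (hp3 : 3 < p) : ∀ (n : ℕ) (G : Type u) [Group G] [Finite G],
    Nat.card G = n → IsPGroup p G → Cfsg.PRankLE p 2 G →
    (∀ x ∈ Cfsg.omegaOne p (⊤ : Subgroup G), x ^ p = 1) ∧
      Nat.card (Cfsg.omegaOne p (⊤ : Subgroup G)) ≤ p ^ 3 := by
  intro n
  induction n using Nat.strong_induction_on with
  | _ n ih =>
  intro G _ _ hn hG hr
  have hsub : ∀ H : Subgroup G, H ≠ ⊤ → (∀ x ∈ Cfsg.omegaOne p H, x ^ p = 1) ∧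
      Nat.card (Cfsg.omegaOne p H) ≤ p ^ 3 := by
    intro H hH
    obtain ⟨h1, h2⟩ := ih _ (hn ▸ Core.card_lt_of_ne_top hH) H rfl (hG.to_subgroup H)
      (pRankLE_subgroup hr H)
    rw [omega_eq_map H, card_map_of_injective H.subtype_injective]
    refine ⟨?_, h2⟩
    rintro _ ⟨x, hx, rfl⟩
    rw [← map_pow, h1 x hx, map_one]
  set O := Cfsg.omegaOne p (⊤ : Subgroup G) with hO'
  by_cases htop : O = ⊤
  swap
  · have h1 := hsub O htop
    have h2 : Cfsg.omegaOne p O = O := le_antisymm (omega_le O)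
      ((closure_le _).mpr fun x hx => mem_omega (subset_closure hx) hx.2)
    rwa [h2] at h1
  have hexp : ∀ x : G, x ^ p = 1 := by
    by_cases hpair : ∀ x y : G, x ^ p = 1 → y ^ p = 1 → (x * y) ^ p = 1
    · intro g
      have hg : g ∈ O := htop.ge (mem_top g)
      rw [hO', Cfsg.omegaOne] at hg
      induction hg using closure_induction with
      | mem z hz => exact hz.2
      | one => exact one_pow p
      | mul a b _ _ iha ihb => exact hpair a b iha ihb
      | inv a _ iha => rw [inv_pow, iha, inv_one]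
    push Not at hpair
    obtain ⟨x, y, hx, hy, hxy⟩ := hpair
    have hgen : ∀ H : Subgroup G, x ∈ H → y ∈ H → H = ⊤ := fun H hxH hyH => by
      by_contra hH
      exact hxy ((hsub H hH).1 _ (mul_mem (mem_omega hxH hx) (mem_omega hyH hy)))
    have hxtop : zpowers x ≠ ⊤ := fun h => hxy (by
      obtain ⟨i, hi⟩ := mem_zpowers_iff.mp (h.symm ▸ mem_top y : y ∈ zpowers x)
      rw [← hi, ((Commute.refl x).zpow_right i).mul_pow, hx, hi, hy, one_mul])
    obtain ⟨M, hM, hxM, hMn⟩ := exists_coatom_normal hG hxtop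
    haveI := hMn
    have htop' : Cfsg.omegaOne p M ⊔ zpowers y = ⊤ := hgen _
      (mem_sup_left (mem_omega (hxM (mem_zpowers x)) hx)) (mem_sup_right (mem_zpowers y))
    have h3 := card_sup_zpowers_le (E := Cfsg.omegaOne p M) (y := y) hy
    rw [htop', card_top] at h3
    have hcard : Nat.card G ≤ p ^ 4 := h3.trans
      ((Nat.mul_le_mul_right _ (hsub M hM).2).trans_eq (pow_succ p 3).symm)
    have hcom : commutator G ≤ Cfsg.omegaOne p M := by
      haveI := isCyclic_quotient_of_sup htop'
      rw [_root_.commutator_def, commutator_le]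
      intro a _ b _
      rw [← QuotientGroup.eq_one_iff, ← QuotientGroup.mk'_apply, map_commutatorElement,
        commutatorElement_eq_one_iff_mul_comm]
      obtain ⟨g, hg⟩ := IsCyclic.exists_generator (α := G ⧸ Cfsg.omegaOne p M)
      obtain ⟨i, hi⟩ := mem_zpowers_iff.mp (hg (QuotientGroup.mk' _ a))
      obtain ⟨l, hl⟩ := mem_zpowers_iff.mp (hg (QuotientGroup.mk' _ b))
      rw [← hi, ← hl]
      exact ((Commute.refl g).zpow_zpow i l).eq
    have hmul : ∀ a b : G, (a * b) ^ p = a ^ p * b ^ p := fun a b => by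
      simpa using Regular.PolySeq.mul_pow_eq hp.out one_ne_zero
        (le_bot_iff.mp ((lcs_three_eq_bot hG hcard) ▸
          Subgroup.lowerCentralSeries_antitone _ (show 3 ≤ p - 1 by omega)))
        (fun c hc => by rw [pow_one]; exact (hsub M hM).1 c (hcom hc)) a b
    exact absurd (by rw [hmul, hx, hy, one_mul] : (x * y) ^ p = 1) hxy
  refine ⟨fun x _ => hexp x, ?_⟩
  rw [htop, card_top]
  exact card_le_of_exponent hG hr hexp

/-- Blackburn: `p > 3`, rank at most two. -/
theorem omega_exponent (hp3 : 3 < p) (hG : IsPGroup p G) (hr : Cfsg.PRankLE p 2 G) :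
    (∀ x ∈ Cfsg.omegaOne p (⊤ : Subgroup G), x ^ p = 1) ∧
      Nat.card (Cfsg.omegaOne p (⊤ : Subgroup G)) ≤ p ^ 3 :=
  omega_exponent_aux hp3 _ G rfl hG hr

end Cfsg.Agent.RankTwo
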