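import Cfsg.Agent.RankTwo.Frame

/-!
A `p`-group, `p` odd, with no elements of order `p` outside the centralizer of a normal `E ≅ p ^ 2`
is metacyclic or of maximal class.
-/

set_option autoImplicit false
set_option linter.unusedSectionVars false
set_option linter.style.haveILetI false

namespace Cfsg.Agent.RankTwo

open Subgroup
open scoped commutatorElement

universe u

variable {p : ℕ} [hp : Fact p.Prime]

theorem eq_zpow_of_cyclic {G : Type u} [Group G] [Finite G] {K : Subgroup G} [IsCyclic K]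
    {x v : G} (hx : x ∈ K) (hx1 : x ≠ 1) (hxp : x ^ p = 1) (hv : v ∈ K) (hvp : v ^ p = 1) :
    v ∈ zpowers x := by
  classical
  haveI : Fintype K := Fintype.ofFinite K
  set S : Set K := {k | k ^ p = 1} with hS
  have hsub : (zpowers (⟨x, hx⟩ : K) : Set K) ⊆ S := by
    rintro _ ⟨i, rfl⟩
    show ((⟨x, hx⟩ : K) ^ i) ^ p = 1
    rw [← zpow_natCast, ← zpow_mul, Int.mul_comm, zpow_mul, zpow_natCast,
      show (⟨x, hx⟩ : K) ^ p = 1 from Subtype.ext hxp, one_zpow]
  have hle : S.ncard ≤ (zpowers (⟨x, hx⟩ : K) : Set K).ncard := by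
    rw [← Nat.card_coe_set_eq (zpowers (⟨x, hx⟩ : K) : Set K), SetLike.coe_sort_coe,
      Nat.card_zpowers, orderOf_eq_prime (p := p) (Subtype.ext hxp)
        (fun h => hx1 (congrArg Subtype.val h)), ← Nat.card_coe_set_eq, Nat.card_eq_fintype_card,
      Fintype.card_ofFinset]
    exact IsCyclic.card_pow_eq_one_le hp.out.pos
  have heq := Set.eq_of_subset_of_ncard_le hsub hle (Set.toFinite _)
  obtain ⟨i, hi⟩ := mem_zpowers_iff.mp
    (show (⟨v, hv⟩ : K) ∈ zpowers (⟨x, hx⟩ : K) from heq.ge (show (⟨v, hv⟩ : K) ∈ S from Subtype.ext hvp))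
  exact ⟨i, by simpa using congrArg Subtype.val hi⟩

theorem isCyclic_commutator_of_metacyclic {G : Type u} [Group G] [Finite G] {C : Subgroup G}
    (h : Cfsg.IsMetacyclic C) : IsCyclic (⁅C, C⁆ : Subgroup G) := by
  obtain ⟨N, hN, hNc, hQc⟩ := h
  have hle : commutator C ≤ N := by
    rw [_root_.commutator_def, commutator_le]
    intro a _ b _
    rw [← QuotientGroup.eq_one_iff, ← QuotientGroup.mk'_apply, map_commutatorElement,
      commutatorElement_eq_one_iff_mul_comm]
    obtain ⟨g, hg⟩ := hQc.exists_generator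
    obtain ⟨i, hi⟩ := mem_zpowers_iff.mp (hg (QuotientGroup.mk' N a))
    obtain ⟨l, hl⟩ := mem_zpowers_iff.mp (hg (QuotientGroup.mk' N b))
    rw [← hi, ← hl]
    exact ((Commute.refl g).zpow_zpow i l).eq
  haveI : IsCyclic (commutator C) :=
    isCyclic_of_injective (inclusion hle) (inclusion_injective hle)
  rw [← map_subtype_commutator]
  exact isCyclic_of_surjective _ (C.subtype.subgroupMap_surjective (commutator C))

theorem frame_dichotomy : ∀ (n : ℕ) (G : Type u) [Group G] [Finite G] (E Z : Subgroup G),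
    Nat.card G = n → p ≠ 2 → IsPGroup p G → Frame p E Z →
    (∀ g : G, g ∉ centralizer (E : Set G) → g ^ p ≠ 1) →
    Cfsg.IsMetacyclic G ∨
      ∀ j : ℕ, Nat.card G = p ^ j → (⊤ : Subgroup G).lowerCentralSeries (j - 2) ≠ ⊥ := by
  intro n
  induction n using Nat.strong_induction_on with
  | _ n ih =>
  intro G _ _ E Z hn hp2 hG F hout
  haveI := F.En
  haveI hCn := F.normal_centralizer
  set C := centralizer (E : Set G) with hC
  by_cases hsmall : ∃ g : G, g ∉ C ∧ Nat.card (centralizer ({g} : Set G)) ≤ p ^ 2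
  · obtain ⟨g, -, hg⟩ := hsmall
    refine Or.inr fun j hj => maxClass_of_centralizer j G hj ?_ ⟨g, hg⟩
    refine (Nat.pow_le_pow_iff_right hp.out.one_lt).mp ?_
    rw [← hj, ← F.Ec]
    exact Nat.le_of_dvd Nat.card_pos (card_subgroup_dvd_card E)
  left
  have hfix : ∀ g : G, g ∉ C → ∃ d ∈ C, Commute g d ∧ d ^ p ∈ Z ∧ d ^ p ≠ 1 ∧
      ∀ y ∈ Z, ∃ i : ℤ, (d ^ i) ^ p = y := fun g hg =>
    F.exists_fixed hG hp2 hg (not_le.mp fun h => hsmall ⟨g, hg, h⟩)
  have hnoZ : ∀ g : G, g ∉ C → g ^ p ∉ Z := by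
    intro g hg hgZ
    obtain ⟨d, hd, hgd, -, -, hgen⟩ := hfix g hg
    obtain ⟨i, hi⟩ := hgen _ hgZ
    refine hout (g * (d ^ i)⁻¹) (fun h => hg ?_) ?_
    · have := mul_mem h (zpow_mem hd i)
      rwa [inv_mul_cancel_right] at this
    · rw [(hgd.zpow_right i).inv_right.mul_pow, inv_pow, hi, mul_inv_cancel]
  obtain ⟨b, hb, hbZ⟩ := F.exists_not_mem
  have hCtop : C ≠ ⊤ := fun h => hbZ (F.inf_center b hb (mem_center_iff.mpr fun g =>
    (mem_centralizer_iff.mp (h.ge (mem_top g)) b hb).symm))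
  obtain ⟨g, -, hg⟩ := SetLike.exists_of_lt (lt_top_iff_ne_top.mpr hCtop)
  have hCg : C ⊔ zpowers g = ⊤ := F.sup_eq_top hG hg
  obtain ⟨d, hd, hgd, hdZ, hdne, hgen⟩ := hfix g hg
  set P := Cfsg.powerClosure p 1 (⊤ : Subgroup G) with hP
  haveI hPn : P.Normal := powers_normal
  refine isMetacyclic_of_index_powers hp2 hG ?_
  rw [← hP]
  by_contra hidx
  have hdP : d ^ p ∈ P := pow_mem_powers d
  have hZP : Z ≤ P := fun y hy => by
    obtain ⟨i, hi⟩ := hgen y hy
    exact hi ▸ pow_mem_powers _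
  by_cases hEP : E ≤ P
  swap
  · have hlay : ∀ x ∈ C, x ^ p ∈ E → x ^ p ∈ Z := fun x _ hxE => by
      by_contra hxZ
      exact hEP ((F.gen hG hxE hxZ).trans (sup_le hZP (zpowers_le.mpr (pow_mem_powers x))))
    obtain ⟨c, k, hcC, hCc, hk, hco, hcz⟩ := F.exists_cyclic hG hp2 hd hdZ hdne hgen hlay
    by_cases hgK : g ^ p ∈ zpowers (c ^ p)
    · obtain ⟨s, hs⟩ := mem_zpowers_iff.mp hgK
      have hcom := F.comm_of_sup hCc
      have hcs : c ^ (-s) ∈ C := zpow_mem hcC _
      have h1 := F.commutator_mem hG hp2 hd hgd hdZ hgen hlay hCc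
        (fun x hx => hcom _ (F.pow_mem_centralizer hG g) x hx) _ hcs
      have h2 : ⁅g, c ^ (-s)⁆ ∈ E := by
        rw [show ⁅g, c ^ (-s)⁆ = c ^ (-s) * ((c ^ (-s))⁻¹ * (g * c ^ (-s) * g⁻¹)) * (c ^ (-s))⁻¹ by
          rw [commutatorElement_def]; group]
        exact F.En.conj_mem _ h1 _
      obtain ⟨t, ht, hpow⟩ := F.quot_pow hG hp2 hcs h2
      refine hnoZ (c ^ (-s) * g) (fun h => hg ?_) ?_
      · have := mul_mem (inv_mem hcs) h
        rwa [inv_mul_cancel_left] at this
      · rw [hpow, ← hs, ← zpow_natCast (c ^ (-s)) p, ← zpow_mul, ← zpow_natCast c p, ← zpow_mul,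
          ← zpow_add, show -s * (p : ℤ) + (p : ℤ) * s = 0 by ring, zpow_zero, one_mul]
        exact ht
    · refine hidx ?_
      have hKP : zpowers (c ^ p) < P := lt_of_le_of_ne (zpowers_le.mpr (pow_mem_powers c))
        fun h => hgK (h ▸ pow_mem_powers g)
      have hK : Nat.card (zpowers (c ^ p)) = p ^ k := by
        rw [Nat.card_zpowers, orderOf_pow_of_dvd hp.out.ne_zero (hco ▸ dvd_pow_self p (by omega)),
          hco, pow_succ, Nat.mul_div_cancel _ hp.out.pos]
      have h6 := Core.card_sup_mul_card_inf (zpowers c) E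
      rw [sup_comm, hCc, Nat.card_zpowers, hco, F.Ec] at h6
      have hinf : p ≤ Nat.card (zpowers c ⊓ E : Subgroup G) := by
        refine Nat.le_of_dvd Nat.card_pos (((hG.to_subgroup _).card_eq_or_dvd).resolve_left fun h => ?_)
        have hmem : c ^ p ^ k ∈ (zpowers c ⊓ E : Subgroup G) :=
          ⟨pow_mem (mem_zpowers c) _, F.Zle hcz⟩
        rw [card_eq_one.mp h, mem_bot] at hmem
        have h1 := orderOf_dvd_of_pow_eq_one hmem
        rw [hco] at h1
        exact absurd ((Nat.pow_dvd_pow_iff_le_right hp.out.one_lt).mp h1) (by omega)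
      have hCc' : Nat.card C ≤ p ^ (k + 2) := by
        refine Nat.le_of_mul_le_mul_right ?_ hp.out.pos
        calc Nat.card C * p ≤ Nat.card C * Nat.card (zpowers c ⊓ E : Subgroup G) :=
              Nat.mul_le_mul_left _ hinf
          _ = p ^ (k + 1) * p ^ 2 := h6
          _ = p ^ (k + 2) * p := by ring
      refine Nat.le_of_mul_le_mul_right ?_ (pow_pos hp.out.pos (k + 1))
      calc P.index * p ^ (k + 1) ≤ P.index * Nat.card P := Nat.mul_le_mul_left _ (by
            rw [pow_succ', ← hK]; exact card_mul_le_of_lt hG hKP)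
        _ = Nat.card G := P.index_mul_card
        _ ≤ p * Nat.card C := F.card_le_mul hG
        _ ≤ p * p ^ (k + 2) := Nat.mul_le_mul_left _ hCc'
        _ = p ^ 2 * p ^ (k + 1) := by ring
  -- `E ≤ P`: pass to the quotient by `E`
  set π := QuotientGroup.mk' E with hπ
  have hQ : IsPGroup p (G ⧸ E) := hG.to_quotient E
  have hsurj : Function.Surjective π := QuotientGroup.mk'_surjective E
  let M : Subgroup G :=
    { carrier := {x | x ∈ C ∧ x ^ p ∈ E}
      one_mem' := ⟨one_mem _, by rw [one_pow]; exact one_mem _⟩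
      mul_mem' := fun {x y} hx hy => ⟨mul_mem hx.1 hy.1, by
        rw [(F.layer hG hp2 hx.1 hy.1 hx.2).2]; exact mul_mem hx.2 hy.2⟩
      inv_mem' := fun {x} hx => ⟨inv_mem hx.1, by rw [inv_pow]; exact inv_mem hx.2⟩ }
  have hMn : M.Normal := ⟨fun x hx h =>
    ⟨hCn.conj_mem x hx.1 h, by rw [conj_pow]; exact F.En.conj_mem _ hx.2 h⟩⟩
  haveI := hMn
  set M' := M.map π with hM'
  haveI hM'n : M'.Normal := hMn.map π hsurj
  have hMQ : ∀ q : G ⧸ E, q ^ p = 1 → q ∈ M' := by
    intro q hq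
    obtain ⟨x, rfl⟩ := hsurj q
    rw [hπ, ← map_pow] at hq
    have hxE : x ^ p ∈ E := (QuotientGroup.eq_one_iff _).mp hq
    refine mem_map_of_mem π (show x ∈ M from ⟨?_, hxE⟩)
    by_contra hxC
    exact hnoZ x hxC (F.mem_Z_of_commute hG hxE hxC (Commute.self_pow x p))
  have hM'exp : ∀ q ∈ M', q ^ p = 1 := by
    rintro _ ⟨x, hx, rfl⟩
    rw [← map_pow]
    exact (QuotientGroup.eq_one_iff _).mpr hx.2
  have hM'card : Nat.card M' ≤ p ^ 2 := by
    let f : M →* E := MonoidHom.mk' (fun x => ⟨(x : G) ^ p, x.2.2⟩)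
      fun x y => Subtype.ext (F.layer hG hp2 x.2.1 y.2.1 x.2.2).2
    have hker : f.ker ≤ E.subgroupOf M := fun x hx => mem_subgroupOf.mpr
      (F.omega _ x.2.1 (congrArg Subtype.val (MonoidHom.mem_ker.mp hx) :))
    have h1 : Nat.card M' = (E.subgroupOf M).index := by
      show Nat.card M' = E.relIndex M
      rw [hM', ← relIndex_ker, QuotientGroup.ker_mk']
    rw [h1, ← F.Ec]
    refine (Nat.le_of_dvd (Nat.pos_of_ne_zero index_ne_zero_of_finite) (index_dvd_of_le hker)).trans ?_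
    rw [index_ker]
    exact Nat.le_of_dvd Nat.card_pos (card_subgroup_dvd_card f.range)
  have hPker : π.ker ≤ P := (QuotientGroup.ker_mk' E).le.trans hEP
  have hbadQ : (P.map π).index = P.index := index_map_eq P hsurj hPker
  have hnotmeta : ¬ Cfsg.IsMetacyclic (G ⧸ E) := fun hm => by
    haveI : (P.map π).Normal := hPn.map _ hsurj
    have h1 := card_le_of_exponent_metacyclic hp2 (hQ.to_quotient _)
      (MaxClass.isMetacyclic_quotient hm (P.map π)) (fun q => by
        obtain ⟨q, rfl⟩ := QuotientGroup.mk'_surjective _ q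
        obtain ⟨x, rfl⟩ := hsurj q
        rw [← map_pow, ← map_pow]
        exact (QuotientGroup.eq_one_iff _).mpr (mem_map_of_mem _ (pow_mem_powers x)))
    rw [← index_eq_card, hbadQ] at h1
    exact hidx h1
  by_cases hM'cen : M' ≤ center (G ⧸ E)
  · exact hnotmeta (isMetacyclic_of_pCentral hp2 hQ (fun q hq => hM'cen (hMQ q hq))
      ((Nat.le_of_dvd Nat.card_pos (card_dvd_of_le
        ((closure_le _).mpr fun q hq => hMQ q hq.2))).trans hM'card))
  have hM'c : Nat.card M' = p ^ 2 := by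
    obtain ⟨i, hi⟩ := IsPGroup.iff_card.mp (hQ.to_subgroup M')
    rw [hi] at hM'card ⊢
    have hi2 := (Nat.pow_le_pow_iff_right hp.out.one_lt).mp hM'card
    congr 1
    by_contra hne
    refine hM'cen fun q hq => mem_center_iff.mpr fun r => ?_
    have hrel : (⊥ : Subgroup (G ⧸ E)).relIndex M' ∣ p := by
      rw [relIndex_bot_left, hi]
      exact (pow_dvd_pow p (show i ≤ 1 by omega)).trans (pow_one p).dvd
    obtain ⟨l, hl⟩ := hQ r
    exact commutatorElement_eq_one_iff_mul_comm.mp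
      (mem_bot.mp (OddLocal.commutator_mem_of_pow_eq_one hrel hl hq))
  obtain ⟨Z', F'⟩ := exists_frame hQ hM'c hM'exp hM'cen (fun q _ hq => hMQ q hq)
  set C' := centralizer (M' : Set (G ⧸ E)) with hC'
  haveI hC'n : C'.Normal := F'.normal_centralizer
  have hCC' : ∀ x ∈ C, π x ∈ C' := fun x hx => mem_centralizer_iff.mpr (by
    rintro _ ⟨m, hm, rfl⟩
    refine (commutatorElement_eq_one_iff_mul_comm.mp ?_).symm
    rw [← map_commutatorElement]
    exact (QuotientGroup.eq_one_iff _).mpr (F.layer hG hp2 hm.1 hx hm.2).1)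
  have hgC' : π g ∉ C' := fun h => hM'cen fun q hq => mem_center_iff.mpr fun r => by
    obtain ⟨x, rfl⟩ := hsurj r
    have hle : (⊤ : Subgroup G) ≤ C'.comap π := hCg.ge.trans (sup_le hCC' (zpowers_le.mpr h))
    exact (mem_centralizer_iff.mp (hle (mem_top x)) q hq).symm
  have hC'C : ∀ q ∈ C', ∃ x ∈ C, π x = q := by
    intro q hq
    obtain ⟨x, rfl⟩ := hsurj q
    refine ⟨x, ?_, rfl⟩
    by_contra hxC
    have hle : (⊤ : Subgroup G) ≤ C'.comap π :=
      (F.sup_eq_top hG hxC).ge.trans (sup_le hCC' (zpowers_le.mpr hq))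
    exact hgC' (hle (mem_top g))
  -- an element of order `p ^ 2` of `C'` with central `p`-th power
  obtain ⟨q, hqC', hqZ, hq1⟩ : ∃ q ∈ C', q ^ p ∈ Z' ∧ q ^ p ≠ 1 := by
    let I : Subgroup (G ⧸ E) :=
      { carrier := {w | ∃ q ∈ C', q ^ p = w ∧ w ∈ M'}
        one_mem' := ⟨1, one_mem _, one_pow p, one_mem _⟩
        mul_mem' := by
          rintro _ _ ⟨a, ha, rfl, ha'⟩ ⟨a', hb, rfl, hb'⟩
          exact ⟨a * a', mul_mem ha hb, (F'.layer hQ hp2 ha hb ha').2, mul_mem ha' hb'⟩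
        inv_mem' := by
          rintro _ ⟨a, ha, rfl, ha'⟩
          exact ⟨a⁻¹, inv_mem ha, inv_pow a p, inv_mem ha'⟩ }
    haveI : I.Normal := ⟨by
      rintro _ ⟨a, ha, rfl, ha'⟩ h
      exact ⟨h * a * h⁻¹, hC'n.conj_mem a ha h, conj_pow, hM'n.conj_mem _ ha' h⟩⟩
    by_cases hI : I = ⊥
    · exfalso
      have hkill : ∀ i : ℕ, ∀ q ∈ C', q ^ p ^ i = 1 → q ^ p = 1 := by
        intro i
        induction i with
        | zero =>
          intro q _ hq
          rw [pow_zero, pow_one] at hq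
          rw [hq, one_pow]
        | succ i ihi =>
          intro q hq hqi
          have h1 : (q ^ p) ^ p = 1 := ihi _ (pow_mem hq p) (by rwa [← pow_mul, ← pow_succ'])
          exact mem_bot.mp (hI ▸ (show q ^ p ∈ I from
            ⟨q, hq, rfl, F'.omega _ (pow_mem hq p) h1⟩))
      have hC'M : C' ≤ M' := fun q hq => by
        obtain ⟨i, hi⟩ := hQ q
        exact F'.omega q hq (hkill i q hq hi)
      have hQ3 : Nat.card (G ⧸ E) ≤ p ^ 3 := by
        refine (F'.card_le_mul hQ).trans ?_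
        rw [pow_succ', ← hM'c]
        exact Nat.mul_le_mul_left p (Nat.le_of_dvd Nat.card_pos (card_dvd_of_le hC'M))
      have hPb : P.map π ≠ ⊥ := fun h => hM'cen fun q hq => by
        have hall : ∀ r : G ⧸ E, r ∈ M' := fun r => hMQ r (by
          obtain ⟨x, rfl⟩ := hsurj r
          rw [← map_pow, ← mem_bot, ← h]
          exact mem_map_of_mem π (pow_mem_powers x))
        exact mem_center_iff.mpr fun r => (F'.Ecomm r (hall r) q hq).eq
      refine hidx ?_
      rw [← hbadQ]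
      refine Nat.le_of_mul_le_mul_right ?_ hp.out.pos
      rw [← pow_succ]
      calc (P.map π).index * p ≤ (P.map π).index * Nat.card (P.map π) := Nat.mul_le_mul_left _
            (Nat.le_of_dvd Nat.card_pos (((hQ.to_subgroup _).card_eq_or_dvd).resolve_left
              fun h => hPb (card_eq_one.mp h)))
        _ = Nat.card (G ⧸ E) := index_mul_card _
        _ ≤ _ := hQ3
    obtain ⟨X, hXI, hXc, -, hX⟩ := Fusion.exists_central_card_prime hQ I hI
    obtain ⟨w, hw, hw1⟩ := (bot_or_exists_ne_one X).resolve_left fun h => by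
      rw [h, card_bot] at hX
      exact hp.out.one_lt.ne hX
    obtain ⟨q, hq, rfl, hqM⟩ := hXI hw
    exact ⟨q, hq, F'.inf_center _ hqM (hXc hw), hw1⟩
  obtain ⟨y, hy, rfl⟩ := hC'C q hqC'
  have hdM : π d ∈ M' := mem_map_of_mem π (show d ∈ M from ⟨hd, F.Zle hdZ⟩)
  have hdZ' : π d ∈ Z' := F'.mem_Z_of_commute hQ hdM hgC' (hgd.map π)
  have hd1 : π d ≠ 1 := fun h => hdne (F.Eexp d ((QuotientGroup.eq_one_iff _).mp h))
  have hZ'gen : zpowers (π d) = Z' := eq_of_le_of_card_ge (zpowers_le.mpr hdZ') (by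
    rw [F'.Zc, Nat.card_zpowers, orderOf_eq_prime (hM'exp _ hdM) hd1])
  obtain ⟨i, hi⟩ := mem_zpowers_iff.mp (hZ'gen.ge hqZ)
  have hyd : y ^ p * (d ^ i)⁻¹ ∈ E := by
    rw [← QuotientGroup.eq_one_iff, ← QuotientGroup.mk'_apply, ← hπ, map_mul, map_inv, map_pow,
      map_zpow, hi, mul_inv_cancel]
  set w := y⁻¹ * (g * y * g⁻¹) with hw
  have hwC : w ∈ C := mul_mem (inv_mem hy) (hCn.conj_mem y hy g)
  have hwM : π w ^ p = 1 := by
    have h2 := (F'.layer hQ hp2 (hCC' y hy) (hCC' w hwC) (F'.Zle hqZ)).2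
    have h1 : π y * π w = π g * π y * (π g)⁻¹ := by
      rw [hw, ← map_mul, mul_inv_cancel_left, map_mul, map_mul, map_inv]
    rw [h1, conj_pow, ← (F'.Zcomm hqZ (π g)).eq, mul_inv_cancel_right] at h2
    exact mul_eq_left.mp h2.symm
  have hwE : w ^ p ∈ E := (QuotientGroup.eq_one_iff _).mp (by
    rw [← map_pow] at hwM
    exact hwM)
  have hwZ : w ^ p ∈ Z := by
    have hyw : (y * w) ^ p = w ^ p * y ^ p := by
      rw [show y * w = y * (w * y) * y⁻¹ by group, conj_pow, (F.layer hG hp2 hwC hy hwE).2]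
      calc y * (w ^ p * y ^ p) * y⁻¹ = (y * w ^ p) * (y ^ p * y⁻¹) := by group
        _ = (w ^ p * y) * (y⁻¹ * y ^ p) := by
          rw [(mem_centralizer_iff.mp hy _ hwE).symm,
            ((Commute.refl y).inv_left.pow_right p).eq]
        _ = w ^ p * y ^ p := by group
    obtain ⟨t, ht, hte⟩ := F.conj_layer hgd hyd i
    rw [inv_mul_cancel_right] at hte
    have h3 : w ^ p * y ^ p = y ^ p * t := by
      rw [← hyw, show y * w = g * y * g⁻¹ by rw [hw, mul_inv_cancel_left], conj_pow, hte]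
    rw [← (F.Zcomm ht (y ^ p)).eq] at h3
    rw [mul_right_cancel h3]
    exact ht
  obtain ⟨e', he', l, hwl⟩ := F.layer_mem hG hp2 hd hdZ hgen hwC hwZ
  have hwZ' : π w ∈ Z' := by
    rw [hwl, map_mul, map_zpow, show π e' = 1 from (QuotientGroup.eq_one_iff _).mpr he', one_mul]
    exact zpow_mem hdZ' l
  -- `π y` lies in the second centre
  haveI := F'.normal_Z
  set ρ := QuotientGroup.mk' Z' with hρ
  set K := (center ((G ⧸ E) ⧸ Z')).comap ρ with hK
  have hKmem : ∀ v : G ⧸ E, (∀ r, ⁅r, v⁆ ∈ Z') → v ∈ K := fun v hv => by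
    rw [hK, mem_comap, mem_center_iff]
    intro r
    obtain ⟨r, rfl⟩ := QuotientGroup.mk'_surjective _ r
    rw [← commutatorElement_eq_one_iff_mul_comm, ← map_commutatorElement]
    exact (QuotientGroup.eq_one_iff _).mpr (hv r)
  have hcyC : ∀ r ∈ C', ⁅r, π y⁆ ∈ Z' := by
    intro r hr
    have hrM : ⁅r, π y⁆ ∈ M' := (F'.layer hQ hp2 (hCC' y hy) hr (F'.Zle hqZ)).1
    have hrC : ⁅r, π y⁆ ∈ ⁅C', C'⁆ := commutator_mem_commutator hr (hCC' y hy)
    haveI := isCyclic_commutator_of_metacyclic (F'.metacyclic_C hQ hp2)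
    by_cases hbot : ⁅C', C'⁆ = ⊥
    · rw [hbot, mem_bot] at hrC
      rw [hrC]
      exact one_mem _
    obtain ⟨X, hXC, hXc, -, hX⟩ := Fusion.exists_central_card_prime hQ ⁅C', C'⁆ hbot
    obtain ⟨x, hx, hx1⟩ := (bot_or_exists_ne_one X).resolve_left fun h => by
      rw [h, card_bot] at hX
      exact hp.out.one_lt.ne hX
    have hxp : x ^ p = 1 := by
      have h3 := pow_card_eq_one' (x := (⟨x, hx⟩ : X))
      rw [hX] at h3
      simpa using congrArg Subtype.val h3
    have hxM : x ∈ M' := hMQ x hxp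
    exact zpowers_le.mpr (F'.inf_center x hxM (hXc hx))
      (eq_zpow_of_cyclic (hXC hx) hx1 hxp hrC (hM'exp _ hrM))
  have hyK : π y ∈ K := hKmem _ fun r => by
    have hle : C' ⊔ zpowers (π g) ≤ (centralizer ({ρ (π y)} : Set ((G ⧸ E) ⧸ Z'))).comap ρ := by
      refine sup_le (fun r hr => mem_centralizer_singleton_iff.mpr ?_)
        (zpowers_le.mpr (mem_centralizer_singleton_iff.mpr ?_))
      · rw [← commutatorElement_eq_one_iff_mul_comm, ← map_commutatorElement]
        exact (QuotientGroup.eq_one_iff _).mpr (hcyC r hr)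
      · rw [← map_mul, ← map_mul]
        refine QuotientGroup.eq.mpr ?_
        show (π g * π y)⁻¹ * (π y * π g) ∈ Z'
        have h2 : (π g * π y)⁻¹ * (π y * π g) = (π g)⁻¹ * (π w)⁻¹ * π g := by
          simp only [hw, map_mul, map_inv]
          group
        rw [h2]
        simpa using (inferInstance : Z'.Normal).conj_mem _ (inv_mem hwZ') (π g)⁻¹
    have h3 := mem_centralizer_singleton_iff.mp (hle ((F'.sup_eq_top hQ hgC').ge (mem_top r)))
    rw [← commutatorElement_eq_one_iff_mul_comm, ← map_commutatorElement] at h3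
    exact (QuotientGroup.eq_one_iff _).mp h3
  have hMK : M' ≤ K := fun v hv => hKmem v fun r => F'.comm r v hv
  have hKbig : p ^ 2 < Nat.card K := by
    have hlt : M' < K := lt_of_le_of_ne hMK fun h => hq1 (hM'exp _ (h.ge hyK))
    rw [← hM'c]
    exact Core.card_lt_of_lt hlt
  have hlt : Nat.card (G ⧸ E) < n := by
    rw [← hn, ← index_eq_card, ← E.index_mul_card]
    exact lt_mul_of_one_lt_right (Nat.pos_of_ne_zero index_ne_zero_of_finite)
      (by rw [F.Ec]; exact Nat.one_lt_pow (by norm_num) hp.out.one_lt)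
  rcases ih _ hlt (G ⧸ E) M' Z' rfl hp2 hQ F'
    (fun q hq h => hq (F'.le_centralizer (hMQ q h))) with hm | hm
  · exact hnotmeta hm
  obtain ⟨j, hj⟩ := IsPGroup.iff_card.mp hQ
  have hj4 : 4 ≤ j := by
    have h1 : M' < C' := lt_of_le_of_ne F'.le_centralizer
      fun h => hq1 (hM'exp _ (h.ge (hCC' y hy)))
    have h2 : C' < ⊤ := lt_top_iff_ne_top.mpr fun h => hgC' (h.ge (mem_top _))
    have h3 := Nat.mul_le_mul_left p (card_mul_le_of_lt hQ h1)
    have h4 := h3.trans (card_mul_le_of_lt hQ h2)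
    rw [hM'c, card_top, hj, show p * (p * p ^ 2) = p ^ 4 by ring] at h4
    exact (Nat.pow_le_pow_iff_right hp.out.one_lt).mp h4
  refine absurd (card_le_of_maxClass hj hj4 (hm j hj) (Y := K) fun r v hv => ?_) (not_le.mpr hKbig)
  refine F'.Zcen ((QuotientGroup.eq_one_iff _).mp ?_)
  show ρ ⁅v, r⁆ = 1
  rw [map_commutatorElement, commutatorElement_eq_one_iff_mul_comm]
  exact (mem_center_iff.mp hv (ρ r)).symm

end Cfsg.Agent.RankTwo
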