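import Cfsg.Agent.RankTwo.Dichotomy

/-!
Generators and relations for a `p`-group, `p` odd, with an element of order `p` outside the
centralizer of a normal elementary subgroup of order `p ^ 2`.
-/

set_option autoImplicit false
set_option linter.unusedSectionVars false
set_option linter.style.haveILetI false

namespace Cfsg.Agent.RankTwo

open Subgroup
open scoped commutatorElement

universe u

variable {p : ℕ} [hp : Fact p.Prime] {G : Type u} [Group G] [Finite G] {E Z : Subgroup G}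

/-- `C(E) = E⟨c⟩` and `u` acts trivially modulo `E`. -/
structure GenData (p : ℕ) (E Z : Subgroup G) (u c : G) (k : ℕ) : Prop where
  sup : E ⊔ zpowers c = centralizer (E : Set G)
  order : orderOf c = p ^ (k + 1)
  top : c ^ p ^ k ∈ Z
  comm : ⁅u, c⁆ ∈ E

theorem Frame.genData_of_big (F : Frame p E Z) (hG : IsPGroup p G) (hp2 : p ≠ 2) {x₀ : G}
    (hx₀ : x₀ ^ p = 1) (hx₀C : x₀ ∉ centralizer (E : Set G))
    (hbig : p ^ 2 < Nat.card (centralizer ({x₀} : Set G))) : ∃ c k, GenData p E Z x₀ c k := by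
  haveI hCn := F.normal_centralizer
  obtain ⟨d, hd, hud, hdZ, hdne, hgen⟩ := F.exists_fixed hG hp2 hx₀C hbig
  have hlay : ∀ l ∈ centralizer (E : Set G), l ^ p ∈ E → l ^ p ∈ Z := by
    intro l hl hlE
    refine F.mem_Z_of_commute hG hlE hx₀C ?_
    set w := l⁻¹ * (x₀ * l * x₀⁻¹) with hw
    have hwC : w ∈ centralizer (E : Set G) := Subgroup.mul_mem _ (Subgroup.inv_mem _ hl)
      (hCn.conj_mem l hl x₀)
    obtain ⟨t, ht, hte⟩ := F.comm' hlE x₀
    have h1 : x₀ * l * x₀⁻¹ = l * w := by rw [hw, mul_inv_cancel_left]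
    have hwp : w ^ p = t := by
      have h2 := (F.layer hG hp2 hl hwC hlE).2
      rw [← h1, conj_pow, hte, (F.Zcomm ht (l ^ p)).eq] at h2
      exact (mul_left_cancel h2).symm
    obtain ⟨e, he, i, hwe⟩ := F.layer_mem hG hp2 hd hdZ hgen hwC (hwp ▸ ht)
    obtain ⟨s, hs, hsw⟩ := F.conj_layer hud he i
    rw [← hwe] at hsw
    have h3 := F.pow_eq_one_of_iterate hp2 h1 hsw hs (by rw [hx₀]; exact Commute.one_left l)
    rw [← hwp, h3, one_mul] at hte
    exact mul_inv_eq_iff_eq_mul.mp hte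
  obtain ⟨c, k, hc, hsup, -, hord, htop⟩ := F.exists_cyclic hG hp2 hd hdZ hdne hgen hlay
  refine ⟨c, k, hsup, hord, htop, ?_⟩
  rw [show ⁅x₀, c⁆ = c * (c⁻¹ * (x₀ * c * x₀⁻¹)) * c⁻¹ by rw [commutatorElement_def]; group]
  exact F.En.conj_mem _ (F.commutator_mem hG hp2 hd hud hdZ hgen hlay hsup
    (fun x _ => by rw [hx₀]; exact Commute.one_left x) c hc) c

theorem Frame.genData_of_rank (F : Frame p E Z) (hG : IsPGroup p G) (hp3 : 3 < p)
    (hr : Cfsg.PRankLE p 2 G) {x₀ : G} (hx₀ : x₀ ^ p = 1) (hx₀C : x₀ ∉ centralizer (E : Set G)) :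
    ∃ c k, GenData p E Z x₀ c k := by
  have hp2 : p ≠ 2 := by omega
  haveI hCn := F.normal_centralizer
  have hexp := (omega_exponent hp3 hG hr).1
  have hcomm : ∀ x ∈ centralizer (E : Set G), ⁅x₀, x⁆ ∈ E := by
    intro x hx
    refine F.omega _ ?_ (hexp _ ?_)
    · rw [show ⁅x₀, x⁆ = (x₀ * x * x₀⁻¹) * x⁻¹ by rw [commutatorElement_def]]
      exact Subgroup.mul_mem _ (hCn.conj_mem x hx x₀) (Subgroup.inv_mem _ hx)
    · rw [show ⁅x₀, x⁆ = x₀ * (x * x₀⁻¹ * x⁻¹) by rw [commutatorElement_def]; group]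
      exact mul_mem (mem_omega (mem_top _) hx₀)
        ((omega_normal ⊤).conj_mem _ (inv_mem (mem_omega (mem_top _) hx₀)) x)
  have hlay : ∀ l ∈ centralizer (E : Set G), l ^ p ∈ E → l ^ p ∈ Z := by
    intro l hl hlE
    refine F.mem_Z_of_commute hG hlE hx₀C ?_
    have h1 : x₀ * l * x₀⁻¹ = ⁅x₀, l⁆ * l := by rw [commutatorElement_def]; group
    have h2 : x₀ * l ^ p * x₀⁻¹ = l ^ p := by
      rw [← conj_pow, h1,
        (show Commute ⁅x₀, l⁆ l from mem_centralizer_iff.mp hl _ (hcomm l hl)).mul_pow,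
        F.Eexp _ (hcomm l hl), one_mul]
    exact mul_inv_eq_iff_eq_mul.mp h2
  by_cases hCE : centralizer (E : Set G) ≤ E
  · obtain ⟨z, hz, hz1, -⟩ := F.exists_generator_Z
    refine ⟨z, 0, le_antisymm (sup_le F.le_centralizer (zpowers_le.mpr (F.le_centralizer (F.Zle hz))))
      (hCE.trans le_sup_left), ?_, by simpa using hz, hcomm z (F.le_centralizer (F.Zle hz))⟩
    rw [zero_add, pow_one]
    exact orderOf_eq_prime (F.Eexp z (F.Zle hz)) hz1
  obtain ⟨x, hx, hxE⟩ := SetLike.not_le_iff_exists.mp hCE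
  classical
  have hex : ∃ i : ℕ, x ^ p ^ i ∈ E := by
    obtain ⟨i, hi⟩ := hG x
    exact ⟨i, by rw [hi]; exact one_mem _⟩
  set i := Nat.find hex with hi
  have hi1 : 1 ≤ i := Nat.one_le_iff_ne_zero.mpr fun h0 => hxE (by
    have := Nat.find_spec hex
    rw [← hi, h0, pow_zero, pow_one] at this
    exact this)
  set d := x ^ p ^ (i - 1) with hd
  have hdC : d ∈ centralizer (E : Set G) := Subgroup.pow_mem _ hx _
  have hdpE : d ^ p ∈ E := by
    rw [hd, ← pow_mul, ← pow_succ, Nat.sub_add_cancel hi1]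
    exact Nat.find_spec hex
  have hdZ := hlay d hdC hdpE
  have hdne : d ^ p ≠ 1 := fun h =>
    Nat.find_min hex (show i - 1 < Nat.find hex by rw [← hi]; omega) (F.omega d hdC h)
  have hgen : ∀ y ∈ Z, ∃ l : ℤ, (d ^ l) ^ p = y := fun y hy => by
    have heq : zpowers (d ^ p) = Z := eq_of_le_of_card_ge (zpowers_le.mpr hdZ) (by
      rw [F.Zc, Nat.card_zpowers, orderOf_eq_prime (F.Eexp _ hdpE) hdne])
    obtain ⟨l, hl⟩ := mem_zpowers_iff.mp (heq.ge hy)
    refine ⟨l, ?_⟩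
    rw [← hl, ← zpow_natCast (d ^ l) p, ← zpow_natCast d p, ← zpow_mul, ← zpow_mul, Int.mul_comm]
  obtain ⟨c, k, hc, hsup, -, hord, htop⟩ := F.exists_cyclic hG hp2 hdC hdZ hdne hgen hlay
  exact ⟨c, k, hsup, hord, htop, hcomm c hc⟩

theorem mem_of_zpow_mem {H : Subgroup G} {y : G} {i : ℤ} {j : ℕ} (hy : y ^ (p ^ j) = 1)
    (hi : ¬ (p : ℤ) ∣ i) (h : y ^ i ∈ H) : y ∈ H := by
  obtain ⟨a, b, hab⟩ : IsCoprime ((p : ℤ) ^ j) i :=
    ((Nat.prime_iff_prime_int.mp hp.out).coprime_iff_not_dvd.mpr hi).pow_left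
  have h1 : y = (y ^ i) ^ b := by
    rw [← zpow_mul, show i * b = 1 - ((p ^ j : ℕ) : ℤ) * a by push_cast; linarith, zpow_sub,
      zpow_one, zpow_mul, zpow_natCast, hy, one_zpow, inv_one, mul_one]
  rw [h1]
  exact zpow_mem h b

/-- The relations of Blackburn's two non-metacyclic families. -/
theorem Frame.relations (F : Frame p E Z) (hG : IsPGroup p G) (hp2 : p ≠ 2) {x₀ c : G} {k n : ℕ}
    (hn : Nat.card G = p ^ n)
    (hx₀ : x₀ ^ p = 1) (hx₀C : x₀ ∉ centralizer (E : Set G)) (D : GenData p E Z x₀ c k) :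
    (3 ≤ n ∧ ∃ x y z : G, closure ({x, y, z} : Set G) = ⊤ ∧ x ^ p = 1 ∧ y ^ p = 1 ∧
        z ^ p ^ (n - 2) = 1 ∧ x * z = z * x ∧ y * z = z * y ∧
        x⁻¹ * y * x = y * z ^ p ^ (n - 3)) ∨
    (4 ≤ n ∧ ∃ (s : ℕ) (x y z : G), (s = 1 ∨ ¬ IsSquare (s : ZMod p)) ∧
        closure ({x, y, z} : Set G) = ⊤ ∧ x ^ p = 1 ∧ y ^ p = 1 ∧ z ^ p ^ (n - 2) = 1 ∧
        y * z = z * y ∧ x⁻¹ * y * x = y * z ^ (s * p ^ (n - 3)) ∧ x⁻¹ * z * x = y * z) := by
  haveI hCn := F.normal_centralizer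
  haveI := F.En
  set C := centralizer (E : Set G) with hC
  have hcC : c ∈ C := D.sup.le (mem_sup_right (mem_zpowers c))
  have hcom := F.comm_of_sup D.sup
  have hEC : E ≤ C := F.le_centralizer
  set z₀ := c ^ p ^ k with hz₀
  have hz₀p : z₀ ^ p = 1 := F.Eexp _ (F.Zle D.top)
  have hz₀1 : z₀ ≠ 1 := fun h => by
    have h1 := orderOf_dvd_of_pow_eq_one h
    rw [D.order] at h1
    exact absurd ((Nat.pow_dvd_pow_iff_le_right hp.out.one_lt).mp h1) (by omega)
  have hzint : ∀ i : ℤ, z₀ ^ i = 1 ↔ (p : ℤ) ∣ i := fun i => by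
    rw [← orderOf_dvd_iff_zpow_eq_one, orderOf_eq_prime hz₀p hz₀1]
  have hzeq : ∀ a b : ℤ, (a : ZMod p) = b → z₀ ^ a = z₀ ^ b := fun a b h => by
    have h1 : (p : ℤ) ∣ a - b := by
      rw [← ZMod.intCast_zmod_eq_zero_iff_dvd, Int.cast_sub, h, sub_self]
    rw [← mul_inv_eq_one, ← zpow_sub]
    exact (hzint _).mpr h1
  have hZz : zpowers z₀ = Z := eq_of_le_of_card_ge (zpowers_le.mpr D.top) (by
    rw [F.Zc, Nat.card_zpowers, orderOf_eq_prime hz₀p hz₀1])
  -- the order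
  have hCcard : Nat.card C = p ^ (k + 2) := by
    have hinf : zpowers c ⊓ E = zpowers z₀ := by
      refine le_antisymm ?_ (zpowers_le.mpr ⟨pow_mem (mem_zpowers c) _, F.Zle D.top⟩)
      intro w hw
      obtain ⟨i, rfl⟩ := mem_zpowers_iff.mp hw.1
      have hwp := F.Eexp _ hw.2
      rw [← zpow_natCast, ← zpow_mul, ← orderOf_dvd_iff_zpow_eq_one, D.order, pow_succ] at hwp
      push_cast at hwp
      obtain ⟨t, rfl⟩ := (mul_dvd_mul_iff_right (by exact_mod_cast hp.out.ne_zero)).mp hwp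
      rw [zpow_mul, show ((p : ℤ) ^ k) = ((p ^ k : ℕ) : ℤ) by push_cast; ring, zpow_natCast]
      exact zpow_mem (mem_zpowers z₀) t
    have h6 := Core.card_sup_mul_card_inf (zpowers c) E
    rw [sup_comm, D.sup, hinf, Nat.card_zpowers, Nat.card_zpowers,
      orderOf_eq_prime hz₀p hz₀1, D.order, F.Ec] at h6
    exact Nat.eq_of_mul_eq_mul_right hp.out.pos (h6.trans (by ring))
  have hnk : n = k + 3 := by
    obtain ⟨i, hi⟩ := hG.index C
    have hle := F.index_le hG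
    rw [← hC, hi] at hle
    have hi1 : i = 1 := by
      have h7 : i ≤ 1 := (Nat.pow_le_pow_iff_right hp.out.one_lt).mp (hle.trans_eq (pow_one p).symm)
      rcases i with _ | i
      · exact absurd (index_eq_one.mp (hi.trans (pow_zero p)) ▸ mem_top x₀) hx₀C
      · omega
    have h := C.index_mul_card
    rw [hn, hi, hi1, hCcard, ← pow_add] at h
    have := Nat.pow_right_injective hp.out.two_le h
    omega
  subst hnk
  have hk2 : k + 3 - 2 = k + 1 := by omega
  have hk3 : k + 3 - 3 = k := by omega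
  rw [hk2, hk3]
  have htop : ∀ H : Subgroup G, x₀ ∈ H → c ∈ H → ∀ b ∈ E, b ∉ Z → b ∈ H → H = ⊤ := by
    intro H hu hc b hbE hbZ hb
    rw [eq_top_iff, ← F.sup_eq_top hG hx₀C, ← D.sup]
    refine sup_le (sup_le ((F.gen hG hbE hbZ).trans (sup_le ?_ (zpowers_le.mpr hb)))
      (zpowers_le.mpr hc)) (zpowers_le.mpr hu)
    rw [← hZz]
    exact zpowers_le.mpr (pow_mem hc _)
  set w := c⁻¹ * (x₀ * c * x₀⁻¹) with hw
  have hwE : w ∈ E := by
    rw [show w = c⁻¹ * ⁅x₀, c⁆ * c⁻¹⁻¹ by rw [hw, commutatorElement_def]; group]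
    exact F.En.conj_mem _ D.comm _
  have hucw : x₀ * c * x₀⁻¹ = c * w := by rw [hw, mul_inv_cancel_left]
  by_cases hwZ : w ∈ Z
  · left
    refine ⟨by omega, ?_⟩
    obtain ⟨b, hb, hbZ⟩ := F.exists_not_mem
    obtain ⟨t, ht, htb⟩ := F.comm' hb x₀
    obtain ⟨m, hm⟩ := mem_zpowers_iff.mp (hZz.ge ht)
    obtain ⟨q, hq⟩ := mem_zpowers_iff.mp (hZz.ge hwZ)
    have hpm : ¬ (p : ℤ) ∣ m := fun hd => by
      rw [← hm, (hzint m).mpr hd, one_mul] at htb
      exact hx₀C (F.mem_centralizer_of_commute hG hb hbZ (mul_inv_eq_iff_eq_mul.mp htb))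
    obtain ⟨i, hi, hik⟩ : ∃ i : ℤ, (p : ℤ) ∣ q + m * i ∧ (k = 0 → i = 0) := by
      rcases Nat.eq_zero_or_pos k with hk | hk
      · refine ⟨0, ?_, fun _ => rfl⟩
        have h1 : c = z₀ := by rw [hz₀, hk, pow_zero, pow_one]
        have : w = 1 := by
          rw [hw, h1, ← (F.Zcomm D.top x₀).eq, mul_inv_cancel_right, inv_mul_cancel]
        rw [← hq, hzint] at this
        simpa using this
      · obtain ⟨a, a', ha⟩ : IsCoprime (p : ℤ) m :=
          (Nat.prime_iff_prime_int.mp hp.out).coprime_iff_not_dvd.mpr hpm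
        refine ⟨-q * a', ⟨q * a, ?_⟩, fun h0 => by omega⟩
        linear_combination -q * ha
    set c' := c * b ^ i with hc'
    have hbc : Commute c b := hcom c hcC b (hEC hb)
    have hubi : x₀ * b ^ i * x₀⁻¹ = b ^ i * z₀ ^ (m * i) := by
      rw [← conj_zpow, htb, (F.Zcomm ht b).mul_zpow, ← hm, ← zpow_mul]
      exact (((F.Zcomm D.top b).zpow_left (m * i)).zpow_right i).eq
    have huc' : x₀ * c' * x₀⁻¹ = c' := by
      calc x₀ * c' * x₀⁻¹ = (x₀ * c * x₀⁻¹) * (x₀ * b ^ i * x₀⁻¹) := by rw [hc']; group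
        _ = c * z₀ ^ q * (b ^ i * z₀ ^ (m * i)) := by rw [hucw, ← hq, hubi]
        _ = c * b ^ i * (z₀ ^ q * z₀ ^ (m * i)) := by
          rw [mul_assoc, mul_assoc, ← mul_assoc (z₀ ^ q),
            (((F.Zcomm D.top b).zpow_left q).zpow_right i).eq, mul_assoc]
        _ = c' := by rw [← zpow_add, (hzint _).mpr hi, mul_one, hc']
    have hc'k : c' ^ p ^ k = z₀ := by
      rcases Nat.eq_zero_or_pos k with hk | hk
      · rw [hc', hik hk, zpow_zero, mul_one]
      · rw [hc', (hbc.zpow_right i).mul_pow, ← zpow_natCast (b ^ i) (p ^ k), ← zpow_mul,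
          Int.mul_comm, zpow_mul, zpow_natCast,
          show b ^ p ^ k = 1 by
            obtain ⟨r, hr⟩ : p ∣ p ^ k := dvd_pow_self p hk.ne'
            rw [hr, pow_mul, F.Eexp b hb, one_pow],
          one_zpow, mul_one]
    set z := c' ^ (-m) with hzdef
    have hc'ord : c' ^ p ^ (k + 1) = 1 := by rw [pow_succ, pow_mul, hc'k, hz₀p]
    have hzk : z ^ p ^ k = z₀ ^ (-m) := by
      rw [hzdef, ← zpow_natCast (c' ^ (-m)) (p ^ k), ← zpow_mul, Int.mul_comm, zpow_mul,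
        zpow_natCast, hc'k]
    refine ⟨x₀, b, z, ?_, hx₀, F.Eexp b hb, ?_, ?_, ?_, ?_⟩
    · set H := closure ({x₀, b, z} : Set G) with hH
      have hu : x₀ ∈ H := subset_closure (by simp)
      have hb' : b ∈ H := subset_closure (by simp)
      have hz' : z ∈ H := subset_closure (by simp)
      have hc'H : c' ∈ H := mem_of_zpow_mem hc'ord (by rwa [Int.dvd_neg]) hz'
      refine htop H hu ?_ b hb hbZ hb'
      have := mul_mem hc'H (inv_mem (zpow_mem hb' i))
      rwa [hc', mul_inv_cancel_right] at this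
    · rw [hzdef, ← zpow_natCast (c' ^ (-m)) (p ^ (k + 1)), ← zpow_mul, Int.mul_comm, zpow_mul,
        zpow_natCast, hc'ord, one_zpow]
    · exact ((show Commute x₀ c' from mul_inv_eq_iff_eq_mul.mp huc').zpow_right _).eq
    · exact ((show Commute b c' from hbc.symm.mul_right ((Commute.refl b).zpow_right i)).zpow_right _).eq
    · have hinv : x₀ * t⁻¹ = t⁻¹ * x₀ := ((F.Zcomm ht x₀).inv_left).eq.symm
      rw [hzk, zpow_neg, hm]
      calc x₀⁻¹ * b * x₀ = x₀⁻¹ * (t⁻¹ * (t * b)) * x₀ := by group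
        _ = (x₀⁻¹ * t⁻¹ * x₀) * b := by rw [← htb]; group
        _ = t⁻¹ * b := by rw [mul_assoc x₀⁻¹, ← hinv, inv_mul_cancel_left]
        _ = b * t⁻¹ := ((F.Zcomm ht b).inv_left).eq
  · right
    have hk : 1 ≤ k := by
      rcases Nat.eq_zero_or_pos k with hk | hk
      · refine absurd ?_ hwZ
        have h1 : c = z₀ := by rw [hz₀, hk, pow_zero, pow_one]
        rw [hw, h1, ← (F.Zcomm D.top x₀).eq, mul_inv_cancel_right, inv_mul_cancel]
        exact one_mem _
      · exact hk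
    refine ⟨by omega, ?_⟩
    obtain ⟨t, ht, htw⟩ := F.comm' hwE x₀
    rw [(F.Zcomm ht w).eq] at htw
    obtain ⟨m, hm⟩ := mem_zpowers_iff.mp (hZz.ge ht)
    have hpm : ¬ (p : ℤ) ∣ m := fun hd => by
      rw [← hm, (hzint m).mpr hd, mul_one] at htw
      exact hx₀C (F.mem_centralizer_of_commute hG hwE hwZ (mul_inv_eq_iff_eq_mul.mp htw))
    have hm0 : (m : ZMod p) ≠ 0 := fun h => hpm ((ZMod.intCast_zmod_eq_zero_iff_dvd _ _).mp h)
    -- choose the scaling
    obtain ⟨s, i, hs, hpi, hsi⟩ : ∃ s i : ℕ, (s = 1 ∨ ¬ IsSquare (s : ZMod p)) ∧ ¬ p ∣ i ∧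
        ((s : ℤ) : ZMod p) = ((m * ((i : ℤ) * i) : ℤ) : ZMod p) := by
      by_cases hsq : IsSquare (m : ZMod p)
      · obtain ⟨r, hr⟩ := hsq
        have hr0 : r ≠ 0 := fun h => hm0 (by rw [hr, h, mul_zero])
        refine ⟨1, (r⁻¹).val, Or.inl rfl, fun h => hr0 ?_, ?_⟩
        · have h1 : ((r⁻¹).val : ZMod p) = 0 := (ZMod.natCast_eq_zero_iff _ _).mpr h
          rw [ZMod.natCast_zmod_val] at h1
          exact inv_eq_zero.mp h1
        · push_cast
          rw [ZMod.natCast_zmod_val, hr]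
          field_simp
      · refine ⟨(m : ZMod p).val, 1, Or.inr ?_, hp.out.not_dvd_one, ?_⟩
        · rwa [ZMod.natCast_zmod_val]
        · push_cast
          rw [ZMod.natCast_zmod_val]
          ring
    have hiw : x₀ ^ i * w * (x₀ ^ i)⁻¹ = w * t ^ i := by
      have h := F.iterate htw (show x₀ * t * x₀⁻¹ = t * 1 by
        rw [← (F.Zcomm ht x₀).eq, mul_inv_cancel_right, mul_one]) (one_mem _) i
      rwa [one_pow, mul_one] at h
    have hic := F.iterate hucw htw ht i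
    set y := w ^ i * t ^ (i.choose 2) with hy
    have htp : t ^ p = 1 := F.Eexp t (F.Zle ht)
    refine ⟨s, (x₀ ^ i)⁻¹, y, c, hs, ?_, ?_, ?_, ?_, ?_, ?_, ?_⟩
    · set H := closure ({(x₀ ^ i)⁻¹, y, c} : Set G) with hH
      have hu : x₀ ^ i ∈ H := inv_mem_iff.mp (subset_closure (by simp))
      have hy' : y ∈ H := subset_closure (by simp)
      have hc' : c ∈ H := subset_closure (by simp)
      have hpi' : ¬ (p : ℤ) ∣ (i : ℤ) := fun h => hpi (by exact_mod_cast h)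
      have huH : x₀ ∈ H := mem_of_zpow_mem (i := (i : ℤ)) (j := 1) (by rwa [pow_one]) hpi'
        (by rwa [zpow_natCast])
      have htH : t ∈ H := hm ▸ zpow_mem (pow_mem hc' _) m
      have hwH : w ∈ H := mem_of_zpow_mem (i := (i : ℤ)) (j := 1) (by rw [pow_one]; exact F.Eexp w hwE)
        hpi' (by
          rw [zpow_natCast]
          have := mul_mem hy' (inv_mem (pow_mem htH (i.choose 2)))
          rwa [hy, mul_inv_cancel_right] at this)
      exact htop H huH hc' w hwE hwZ hwH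
    · rw [inv_pow, ← pow_mul, Nat.mul_comm, pow_mul, hx₀, one_pow, inv_one]
    · exact F.Eexp y (mul_mem (pow_mem hwE i) (pow_mem (F.Zle ht) _))
    · rw [← D.order, pow_orderOf_eq_one]
    · exact (hcom y (hEC (mul_mem (pow_mem hwE i) (pow_mem (F.Zle ht) _))) c hcC).eq
    · rw [inv_inv]
      calc x₀ ^ i * y * (x₀ ^ i)⁻¹
          = (x₀ ^ i * w * (x₀ ^ i)⁻¹) ^ i * (x₀ ^ i * t ^ (i.choose 2) * (x₀ ^ i)⁻¹) := by
            rw [conj_pow, hy]; group
        _ = w ^ i * t ^ (i * i) * t ^ (i.choose 2) := by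
            rw [hiw, (F.Zcomm ht w).symm.pow_right i |>.mul_pow, ← pow_mul,
              ← ((F.Zcomm ht (x₀ ^ i)).pow_left (i.choose 2)).eq, mul_inv_cancel_right]
        _ = y * t ^ (i * i) := by
            rw [hy, mul_assoc, mul_assoc, ← pow_add, ← pow_add, Nat.add_comm]
        _ = y * c ^ (s * p ^ k) := by
            congr 1
            rw [Nat.mul_comm s, pow_mul c, ← hz₀, ← hm, ← zpow_natCast, ← zpow_mul,
              ← zpow_natCast z₀ s]
            refine hzeq _ _ ?_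
            rw [hsi]
            push_cast
            ring
    · rw [inv_inv, hic, mul_assoc, ← hy]
      exact (hcom c hcC y (hEC (mul_mem (pow_mem hwE i) (pow_mem (F.Zle ht) _)))).eq

end Cfsg.Agent.RankTwo
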