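import Cfsg.Agent.FGS.AutFrattini
import Cfsg.Agent.Fusion.PGroup
import Cfsg.Agent.MaxClass.OddP
import Cfsg.Agent.MaxClass.Metacyclic
import Cfsg.Agent.Metacyclic.Coprime
import Cfsg.Agent.S0638
import Cfsg.Prelude.Def_PLocal

/-!
Elementary tools for `p`-groups of rank two, `p` odd.
-/

set_option autoImplicit false
set_option linter.unusedSectionVars false

namespace Cfsg.Agent.RankTwo

open Subgroup
open scoped commutatorElement

universe u v

variable {p : ℕ} [hp : Fact p.Prime] {G : Type u} [Group G]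

theorem mem_omega {H : Subgroup G} {x : G} (hx : x ∈ H) (hxp : x ^ p = 1) :
    x ∈ Cfsg.omegaOne p H := subset_closure ⟨hx, hxp⟩

theorem omega_le (H : Subgroup G) : Cfsg.omegaOne p H ≤ H := (closure_le _).mpr fun _ hx => hx.1

instance omega_normal (H : Subgroup G) [H.Normal] : (Cfsg.omegaOne p H).Normal := by
  refine ⟨fun x hx g => ?_⟩
  induction hx using closure_induction with
  | mem z hz =>
    exact mem_omega ((inferInstance : H.Normal).conj_mem z hz.1 g)
      (by rw [conj_pow, hz.2, mul_one, mul_inv_cancel])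
  | one => simp
  | mul a b _ _ iha ihb =>
    rw [show g * (a * b) * g⁻¹ = g * a * g⁻¹ * (g * b * g⁻¹) by group]
    exact mul_mem iha ihb
  | inv a _ iha =>
    rw [show g * a⁻¹ * g⁻¹ = (g * a * g⁻¹)⁻¹ by group]
    exact inv_mem iha

theorem map_omega_top_le {H : Type v} [Group H] (f : H →* G) :
    (Cfsg.omegaOne p (⊤ : Subgroup H)).map f ≤ Cfsg.omegaOne p f.range := by
  rw [Cfsg.omegaOne, MonoidHom.map_closure, closure_le]
  rintro _ ⟨x, hx, rfl⟩
  exact mem_omega ⟨x, rfl⟩ (by rw [← map_pow, hx.2, map_one])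

theorem omega_mono {H K : Subgroup G} (h : H ≤ K) : Cfsg.omegaOne p H ≤ Cfsg.omegaOne p K :=
  (closure_le _).mpr fun _ hx => mem_omega (h hx.1) hx.2

theorem omega_eq_map (H : Subgroup G) :
    Cfsg.omegaOne p H = (Cfsg.omegaOne p (⊤ : Subgroup H)).map H.subtype := by
  refine le_antisymm ((closure_le _).mpr fun x hx => ?_) ?_
  · exact ⟨⟨x, hx.1⟩, mem_omega (mem_top _) (Subtype.ext (by simpa using hx.2)), rfl⟩
  · exact (map_omega_top_le H.subtype).trans (omega_mono (range_subtype H).le)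

theorem card_omega_subgroup [Finite G] (H : Subgroup G) :
    Nat.card (Cfsg.omegaOne p (⊤ : Subgroup H)) ≤ Nat.card (Cfsg.omegaOne p (⊤ : Subgroup G)) := by
  rw [← card_map_of_injective H.subtype_injective, ← omega_eq_map]
  exact Nat.le_of_dvd Nat.card_pos (card_dvd_of_le (omega_mono le_top))

theorem omega_eq_top [Finite G] (h : ∀ x : G, x ^ p = 1) :
    Cfsg.omegaOne p (⊤ : Subgroup G) = ⊤ :=
  eq_top_iff.mpr fun x _ => mem_omega (mem_top x) (h x)

theorem commute_of_metacyclic [Finite G] (hp2 : p ≠ 2) (hG : IsPGroup p G)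
    (hm : Cfsg.IsMetacyclic G) {x y : G} (hx : x ^ p = 1) (hy : y ^ p = 1) : x * y = y * x := by
  by_cases hc : IsCyclic G
  · obtain ⟨g, hg⟩ := hc.exists_generator
    obtain ⟨i, rfl⟩ := mem_zpowers_iff.mp (hg x)
    obtain ⟨j, rfl⟩ := mem_zpowers_iff.mp (hg y)
    exact ((Commute.refl g).zpow_zpow i j).eq
  · have h := (S0638.omega_one_result hp2 hG hm hc).1
    exact congrArg Subtype.val (h.1.is_comm.comm (⟨x, mem_omega (mem_top x) hx⟩ :
      Cfsg.omegaOne p (⊤ : Subgroup G)) ⟨y, mem_omega (mem_top y) hy⟩)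

theorem card_omega_metacyclic [Finite G] (hp2 : p ≠ 2) (hG : IsPGroup p G)
    (hm : Cfsg.IsMetacyclic G) : Nat.card (Cfsg.omegaOne p (⊤ : Subgroup G)) ≤ p ^ 2 := by
  by_cases hc : IsCyclic G
  · have hsub : ∀ x ∈ Cfsg.omegaOne p (⊤ : Subgroup G), x ^ p = 1 := by
      intro x hx
      induction hx using closure_induction with
      | mem z hz => exact hz.2
      | one => exact one_pow p
      | mul a b _ _ iha ihb =>
        obtain ⟨g, hg⟩ := hc.exists_generator
        obtain ⟨i, rfl⟩ := mem_zpowers_iff.mp (hg a)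
        obtain ⟨j, rfl⟩ := mem_zpowers_iff.mp (hg b)
        rw [((Commute.refl g).zpow_zpow i j).mul_pow, iha, ihb, one_mul]
      | inv a _ iha => rw [inv_pow, iha, inv_one]
    haveI := Subgroup.isCyclic (Cfsg.omegaOne p (⊤ : Subgroup G))
    obtain ⟨g, hg⟩ := IsCyclic.exists_generator (α := Cfsg.omegaOne p (⊤ : Subgroup G))
    rw [← orderOf_eq_card_of_forall_mem_zpowers hg]
    exact (Nat.le_of_dvd hp.out.pos (orderOf_dvd_of_pow_eq_one (Subtype.ext (hsub g g.2)))).trans
      (Nat.le_self_pow two_ne_zero p)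
  · exact (S0638.omega_one_result hp2 hG hm hc).2.le

theorem isMetacyclic_of_surjective [Finite G] {H : Type v} [Group H]
    (hm : Cfsg.IsMetacyclic G) (f : G →* H) (hf : Function.Surjective f) : Cfsg.IsMetacyclic H :=
  Metacyclic.isMetacyclic_of_injective (MaxClass.isMetacyclic_quotient hm f.ker)
    (QuotientGroup.quotientKerEquivOfSurjective f hf).symm.toMonoidHom (MulEquiv.injective _)

theorem card_le_of_exponent_metacyclic [Finite G] (hp2 : p ≠ 2) (hG : IsPGroup p G)
    (hm : Cfsg.IsMetacyclic G) (h : ∀ x : G, x ^ p = 1) : Nat.card G ≤ p ^ 2 := by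
  have := card_omega_metacyclic hp2 hG hm
  rwa [omega_eq_top h, card_top] at this

variable [Finite G]

theorem card_mul_le_of_lt (hG : IsPGroup p G) {H K : Subgroup G} (h : H < K) :
    p * Nat.card H ≤ Nat.card K := by
  obtain ⟨a, ha⟩ := IsPGroup.iff_card.mp (hG.to_subgroup H)
  obtain ⟨b, hb⟩ := IsPGroup.iff_card.mp (hG.to_subgroup K)
  have h1 := Core.card_lt_of_lt h
  rw [ha, hb] at h1 ⊢
  rw [← pow_succ']
  exact Nat.pow_le_pow_right hp.out.pos ((Nat.pow_lt_pow_iff_right hp.out.one_lt).mp h1)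

/-- In a normal subgroup of index `i`, every element completes to the whole group after adding
few elements. -/
theorem sup_eq_top_of_index_le (hG : IsPGroup p G) {P : Subgroup G} (h : P.index ≤ p) {b : G}
    (hb : b ∉ P) : P ⊔ zpowers b = ⊤ := by
  refine eq_top_of_le_card _ ?_
  have h1 : p * Nat.card P ≤ Nat.card (P ⊔ zpowers b : Subgroup G) := card_mul_le_of_lt hG
    (lt_of_le_of_ne le_sup_left fun e => hb (e ▸ mem_sup_right (mem_zpowers b)))
  calc Nat.card G = P.index * Nat.card P := P.index_mul_card.symm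
    _ ≤ p * Nat.card P := Nat.mul_le_mul_right _ h
    _ ≤ _ := h1

theorem isCyclic_quotient_of_sup {N : Subgroup G} [N.Normal] {b : G}
    (h : N ⊔ zpowers b = ⊤) : IsCyclic (G ⧸ N) := by
  refine isCyclic_iff_exists_zpowers_eq_top.mpr ⟨(b : G ⧸ N), ?_⟩
  have h1 := congrArg (Subgroup.map (QuotientGroup.mk' N)) h
  rw [Subgroup.map_sup, QuotientGroup.map_mk'_self, bot_sup_eq, MonoidHom.map_zpowers,
    Subgroup.map_top_of_surjective _ (QuotientGroup.mk'_surjective N)] at h1
  exact h1

theorem card_sup_zpowers_le {E : Subgroup G} [E.Normal] {y : G} (hy : y ^ p = 1) :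
    Nat.card (E ⊔ zpowers y : Subgroup G) ≤ Nat.card E * p := by
  have h := Core.card_sup_mul_card_inf (zpowers y) E
  rw [sup_comm] at h
  have h1 : Nat.card (zpowers y) ≤ p := by
    rw [Nat.card_zpowers]
    exact Nat.le_of_dvd hp.out.pos (orderOf_dvd_of_pow_eq_one hy)
  calc Nat.card (E ⊔ zpowers y : Subgroup G)
      ≤ Nat.card (E ⊔ zpowers y : Subgroup G) * Nat.card (zpowers y ⊓ E : Subgroup G) :=
        Nat.le_mul_of_pos_right _ Nat.card_pos
    _ = Nat.card (zpowers y) * Nat.card E := h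
    _ ≤ p * Nat.card E := Nat.mul_le_mul_right _ h1
    _ = _ := Nat.mul_comm _ _

theorem exists_coatom_normal (hG : IsPGroup p G) {H : Subgroup G} (h : H ≠ ⊤) :
    ∃ M : Subgroup G, M ≠ ⊤ ∧ H ≤ M ∧ M.Normal := by
  obtain ⟨M, hM, hHM⟩ := (eq_top_or_exists_le_coatom H).resolve_left h
  haveI := hG.isNilpotent
  exact ⟨M, hM.1, hHM, Subgroup.NormalizerCondition.normal_of_coatom M
    (Group.normalizerCondition_of_isNilpotent) hM⟩

theorem commutator_le_center_of_card_le (hG : IsPGroup p G) (h : Nat.card G ≤ p ^ 3) :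
    commutator G ≤ center G := by
  by_cases hc : IsMulCommutative G
  · intro x _
    exact mem_center_iff.mpr fun g => hc.is_comm.comm g x
  have h2 := MaxClass.sq_le_index_center hG hc
  obtain ⟨j, hj⟩ := hG.index (center G)
  obtain ⟨i, hi⟩ := IsPGroup.iff_card.mp (hG.to_subgroup (center G))
  have h3 := (center G).index_mul_card
  have hi1 : i ≠ 0 := fun h0 => by
    haveI : Nontrivial G := not_subsingleton_iff_nontrivial.mp fun hs =>
      hc ⟨⟨fun a b => hs.elim _ _⟩⟩
    haveI := IsPGroup.center_nontrivial hG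
    exact (one_lt_card_iff_ne_bot (center G)).mpr ((nontrivial_iff_ne_bot _).mp inferInstance) |>.ne'
      (by rw [hi, h0, pow_zero])
  have hj2 : j = 2 := by
    rw [hj] at h2 h3
    rw [hi, ← pow_add] at h3
    rw [← h3] at h
    have := (Nat.pow_le_pow_iff_right hp.out.one_lt).mp h2
    have := (Nat.pow_le_pow_iff_right hp.out.one_lt).mp h
    omega
  have hq : Nat.card (G ⧸ center G) = p ^ 2 := by rw [← index_eq_card, hj, hj2]
  rw [_root_.commutator_def, commutator_le]
  intro x _ y _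
  rw [← QuotientGroup.eq_one_iff, ← QuotientGroup.mk'_apply, map_commutatorElement,
    commutatorElement_eq_one_iff_mul_comm]
  exact IsPGroup.commutative_of_card_eq_prime_sq hq _ _

/-- Normal subgroups containing all `p`-th powers and with small index. -/
theorem commutator_le_of_index_le (hG : IsPGroup p G) {P : Subgroup G} [P.Normal]
    (h : P.index ≤ p ^ 2) : commutator G ≤ P := by
  rw [_root_.commutator_def, commutator_le]
  intro x _ y _
  rw [← QuotientGroup.eq_one_iff, ← QuotientGroup.mk'_apply, map_commutatorElement,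
    commutatorElement_eq_one_iff_mul_comm]
  obtain ⟨j, hj⟩ := hG.index P
  rw [hj] at h
  have hj2 : j ≤ 2 := (Nat.pow_le_pow_iff_right hp.out.one_lt).mp h
  have hq : Nat.card (G ⧸ P) = p ^ j := by rw [← index_eq_card, hj]
  interval_cases j
  · haveI := (Nat.card_eq_one_iff_unique.mp (by rw [hq, pow_zero] : Nat.card (G ⧸ P) = 1)).1
    exact Subsingleton.elim _ _
  · haveI : IsCyclic (G ⧸ P) := isCyclic_of_prime_card (p := p) (by rw [hq, pow_one])
    obtain ⟨g, hg⟩ := IsCyclic.exists_generator (α := G ⧸ P)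
    obtain ⟨i, hi⟩ := mem_zpowers_iff.mp (hg (QuotientGroup.mk' P x))
    obtain ⟨l, hl⟩ := mem_zpowers_iff.mp (hg (QuotientGroup.mk' P y))
    rw [← hi, ← hl]
    exact ((Commute.refl g).zpow_zpow i l).eq
  · exact IsPGroup.commutative_of_card_eq_prime_sq hq _ _

end Cfsg.Agent.RankTwo
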