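import Cfsg.Agent.RankTwo.PCentral

/-!
`p`-groups, `p` odd, with a noncentral normal elementary subgroup `E` of order `p ^ 2` containing
all elements of order `p` of its centralizer.
-/

set_option autoImplicit false
set_option linter.unusedSectionVars false
set_option linter.style.haveILetI false

namespace Cfsg.Agent.RankTwo

open Subgroup
open scoped commutatorElement

universe u

variable {p : ℕ} [hp : Fact p.Prime] {G : Type u} [Group G]

/-- `E` is a noncentral normal subgroup of order `p ^ 2`, `Z` its central part, and the centralizer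
of `E` has no elements of order `p` outside `E`. -/
structure Frame (p : ℕ) (E Z : Subgroup G) : Prop where
  En : E.Normal
  Ec : Nat.card E = p ^ 2
  Eexp : ∀ e ∈ E, e ^ p = 1
  Ecomm : ∀ a ∈ E, ∀ b ∈ E, Commute a b
  Zle : Z ≤ E
  Zc : Nat.card Z = p
  Zcen : Z ≤ center G
  comm : ∀ g : G, ∀ e ∈ E, ⁅g, e⁆ ∈ Z
  inf_center : ∀ e ∈ E, e ∈ center G → e ∈ Z
  omega : ∀ x ∈ centralizer (E : Set G), x ^ p = 1 → x ∈ E

variable [Finite G]

theorem exists_frame (hG : IsPGroup p G) {E : Subgroup G} [E.Normal] (hEc : Nat.card E = p ^ 2)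
    (hEexp : ∀ e ∈ E, e ^ p = 1) (hnc : ¬ E ≤ center G)
    (hω : ∀ x ∈ centralizer (E : Set G), x ^ p = 1 → x ∈ E) : ∃ Z : Subgroup G, Frame p E Z := by
  have hne : E ≠ ⊥ := fun h => hnc (h ▸ bot_le)
  obtain ⟨Z, hZE, hZc, hZn, hZ⟩ := Fusion.exists_central_card_prime hG E hne
  haveI := hZn
  have hrel : Z.relIndex E ∣ p := by
    have h3 := relIndex_mul_relIndex ⊥ Z E bot_le hZE
    rw [relIndex_bot_left, relIndex_bot_left, hEc, hZ] at h3
    exact (Nat.eq_of_mul_eq_mul_left hp.out.pos (h3.trans (pow_two p))).dvd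
  refine ⟨Z, inferInstance, hEc, hEexp, fun a ha b hb => congrArg Subtype.val
    (IsPGroup.commutative_of_card_eq_prime_sq hEc (⟨a, ha⟩ : E) ⟨b, hb⟩), hZE, hZ, hZc, fun g e he => ?_,
    fun e he hec => ?_, hω⟩
  · obtain ⟨j, hj⟩ := hG g
    exact OddLocal.commutator_mem_of_pow_eq_one hrel hj he
  · by_contra heZ
    refine hnc ?_
    have hlt : Z < Z ⊔ zpowers e := lt_of_le_of_ne le_sup_left
      fun h => heZ (h.ge (mem_sup_right (mem_zpowers e)))
    have heq : Z ⊔ zpowers e = E := by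
      refine eq_of_le_of_card_ge (sup_le hZE (zpowers_le.mpr he)) ?_
      rw [hEc, pow_two]
      exact hZ ▸ card_mul_le_of_lt hG hlt
    rw [← heq]
    exact sup_le hZc (zpowers_le.mpr hec)

namespace Frame

variable {E Z : Subgroup G} (F : Frame p E Z)
include F

theorem normal_Z : Z.Normal := ⟨fun z hz g => by
  rw [mem_center_iff.mp (F.Zcen hz) g, mul_inv_cancel_right]
  exact hz⟩

theorem comm' {e : G} (he : e ∈ E) (g : G) : ∃ t ∈ Z, g * e * g⁻¹ = t * e :=
  ⟨⁅g, e⁆, F.comm g e he, by rw [commutatorElement_def]; group⟩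

theorem Zcomm {z : G} (hz : z ∈ Z) (g : G) : Commute z g := (mem_center_iff.mp (F.Zcen hz) g).symm

theorem le_centralizer : E ≤ centralizer (E : Set G) :=
  fun a ha => mem_centralizer_iff.mpr fun b hb => (F.Ecomm b hb a ha).eq

theorem gen (hG : IsPGroup p G) {b : G} (hb : b ∈ E) (hbZ : b ∉ Z) : E ≤ Z ⊔ zpowers b := by
  refine (eq_of_le_of_card_ge (sup_le F.Zle (zpowers_le.mpr hb)) ?_).ge
  rw [F.Ec, pow_two]
  exact F.Zc ▸ card_mul_le_of_lt hG (lt_of_le_of_ne le_sup_left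
    fun h => hbZ (h.ge (mem_sup_right (mem_zpowers b))))

theorem exists_not_mem : ∃ b ∈ E, b ∉ Z := SetLike.exists_of_lt (lt_of_le_of_ne F.Zle fun h => by
  have h2 := F.Ec
  rw [← h, F.Zc] at h2
  exact (lt_self_pow₀ hp.out.one_lt (by norm_num : 1 < 2)).ne h2)

theorem mem_centralizer_of_commute (hG : IsPGroup p G) {g b : G} (hb : b ∈ E) (hbZ : b ∉ Z)
    (h : Commute g b) : g ∈ centralizer (E : Set G) := by
  refine mem_centralizer_iff.mpr fun e he => ?_
  have hle : Z ⊔ zpowers b ≤ centralizer {g} := sup_le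
    (fun z hz => mem_centralizer_singleton_iff.mpr (F.Zcomm hz g).eq)
    (zpowers_le.mpr (mem_centralizer_singleton_iff.mpr h.eq.symm))
  exact mem_centralizer_singleton_iff.mp (hle (F.gen hG hb hbZ he))

theorem mem_Z_of_commute (hG : IsPGroup p G) {g e : G} (he : e ∈ E)
    (hg : g ∉ centralizer (E : Set G)) (h : Commute g e) : e ∈ Z :=
  by_contra fun heZ => hg (F.mem_centralizer_of_commute hG he heZ h)

theorem index_le (hG : IsPGroup p G) : (centralizer (E : Set G)).index ≤ p := by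
  obtain ⟨b, hb, hbZ⟩ := F.exists_not_mem
  have h1 := OddLocal.card_le_of_commutator_mem (L := (⊤ : Subgroup G)) (N := Z) (s := b)
    fun a _ => F.comm a b hb
  rw [card_top, top_inf_eq, F.Zc] at h1
  refine Nat.le_of_mul_le_mul_right ?_ (Nat.card_pos (α := centralizer (E : Set G)))
  rw [index_mul_card, Nat.mul_comm p]
  refine h1.trans (Nat.mul_le_mul_right p (Nat.le_of_dvd Nat.card_pos (card_dvd_of_le fun g hg => ?_)))
  exact F.mem_centralizer_of_commute hG hb hbZ (mem_centralizer_singleton_iff.mp hg)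

theorem sup_eq_top (hG : IsPGroup p G) {g : G} (hg : g ∉ centralizer (E : Set G)) :
    centralizer (E : Set G) ⊔ zpowers g = ⊤ := sup_eq_top_of_index_le hG (F.index_le hG) hg

theorem normal_centralizer : (centralizer (E : Set G)).Normal :=
  haveI := F.En
  inferInstance

theorem card_le_mul (hG : IsPGroup p G) :
    Nat.card G ≤ p * Nat.card (centralizer (E : Set G)) := by
  rw [← (centralizer (E : Set G)).index_mul_card]
  exact Nat.mul_le_mul_right _ (F.index_le hG)

theorem pow_mem_centralizer (hG : IsPGroup p G) (g : G) : g ^ p ∈ centralizer (E : Set G) := by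
  haveI := F.normal_centralizer
  obtain ⟨j, hj⟩ := hG.index (centralizer (E : Set G))
  have h := F.index_le hG
  rw [hj] at h
  have hj1 : j ≤ 1 := (Nat.pow_le_pow_iff_right hp.out.one_lt).mp (h.trans_eq (pow_one p).symm)
  rw [← QuotientGroup.eq_one_iff, QuotientGroup.mk_pow]
  refine orderOf_dvd_iff_pow_eq_one.mp ((_root_.orderOf_dvd_natCard _).trans ?_)
  rw [← index_eq_card, hj]
  exact (pow_dvd_pow p hj1).trans (pow_one p).dvd

theorem center_C {z : G} (hz : z ∈ centralizer (E : Set G)) (hzp : z ^ p = 1) {g : G}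
    (hg : g ∈ centralizer (E : Set G)) : Commute g z :=
  (mem_centralizer_iff.mp hg z (F.omega z hz hzp)).symm

theorem pCentral : ∀ z : centralizer (E : Set G), z ^ p = 1 → z ∈ center (centralizer (E : Set G)) :=
  fun z hz => mem_center_iff.mpr fun g => Subtype.ext
    (F.center_C z.2 (by simpa using congrArg Subtype.val hz) g.2).eq

theorem card_omega_C :
    Nat.card (Cfsg.omegaOne p (⊤ : Subgroup (centralizer (E : Set G)))) ≤ p ^ 2 := by
  rw [← card_map_of_injective (centralizer (E : Set G)).subtype_injective, ← omega_eq_map, ← F.Ec]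
  exact Nat.le_of_dvd Nat.card_pos (card_dvd_of_le
    ((closure_le _).mpr fun w hw => F.omega w hw.1 hw.2))

theorem metacyclic_C (hG : IsPGroup p G) (hp2 : p ≠ 2) :
    Cfsg.IsMetacyclic (centralizer (E : Set G)) :=
  isMetacyclic_of_pCentral hp2 (hG.to_subgroup _) F.pCentral F.card_omega_C

/-- Commutators and powers next to an element with `p`-th power in `E`. -/
theorem layer (hG : IsPGroup p G) (hp2 : p ≠ 2) {x g : G} (hx : x ∈ centralizer (E : Set G))
    (hg : g ∈ centralizer (E : Set G)) (hxE : x ^ p ∈ E) :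
    ⁅g, x⁆ ∈ E ∧ (x * g) ^ p = x ^ p * g ^ p := by
  have h := pow_mul_of_pCentral (G := centralizer (E : Set G)) hp2 (hG.to_subgroup _) F.pCentral
    (x := ⟨x, hx⟩) (Subtype.ext (by simpa using F.Eexp _ hxE)) ⟨g, hg⟩
  refine ⟨F.omega _ (Subgroup.mul_mem _ (Subgroup.mul_mem _ (Subgroup.mul_mem _ hg hx)
      (Subgroup.inv_mem _ hg)) (Subgroup.inv_mem _ hx))
    (by simpa [commutatorElement_def] using congrArg Subtype.val h.1),
    by simpa using congrArg Subtype.val h.2.2⟩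

theorem quot_pow (hG : IsPGroup p G) (hp2 : p ≠ 2) {x g : G} (hx : x ∈ centralizer (E : Set G))
    (hgx : ⁅g, x⁆ ∈ E) : ∃ t ∈ Z, (x * g) ^ p = x ^ p * g ^ p * t := by
  haveI := F.normal_Z
  set π := QuotientGroup.mk' Z with hπ
  have hone : ∀ a b : G, ⁅a, b⁆ ∈ Z → Commute (π a) (π b) := fun a b hab =>
    commutatorElement_eq_one_iff_commute.mp
      (by rw [← map_commutatorElement]; exact (QuotientGroup.eq_one_iff _).mpr hab)
  have h := Fusion.mul_pow_of_commute_commutator (x := π x) (y := π g)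
    (by rw [← map_commutatorElement]
        exact ((show Commute ⁅g, x⁆ x from mem_centralizer_iff.mp hx _ hgx).map π))
    (by rw [← map_commutatorElement]; exact (hone g _ (F.comm g _ hgx)).symm) p
  have hkill : ⁅π g, π x⁆ ^ p = 1 := by
    rw [← map_commutatorElement, ← map_pow, F.Eexp _ hgx, map_one]
  rw [choose_two_kill hp2 hkill, mul_one, ← map_mul, ← map_pow, ← map_pow, ← map_pow,
    ← map_mul] at h
  refine ⟨(x ^ p * g ^ p)⁻¹ * (x * g) ^ p, (QuotientGroup.eq_one_iff _).mp ?_, by group⟩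
  show π _ = 1
  rw [map_mul, map_inv, h, inv_mul_cancel]

theorem exists_generator_Z : ∃ z ∈ Z, z ≠ 1 ∧ ∀ y ∈ Z, ∃ i : ℤ, z ^ i = y := by
  haveI : IsCyclic Z := isCyclic_of_prime_card F.Zc
  obtain ⟨z, hz⟩ := IsCyclic.exists_generator (α := Z)
  refine ⟨z, z.2, fun h => ?_, fun y hy => ?_⟩
  · have h1 := orderOf_eq_card_of_forall_mem_zpowers hz
    rw [show z = 1 from Subtype.ext h, orderOf_one, F.Zc] at h1
    exact hp.out.one_lt.ne h1
  · obtain ⟨i, hi⟩ := mem_zpowers_iff.mp (hz ⟨y, hy⟩)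
    exact ⟨i, by simpa using congrArg Subtype.val hi⟩

/-- Outside the centralizer of `E`, a large centralizer meets it in an element of order `p ^ 2`. -/
theorem exists_fixed (hG : IsPGroup p G) (hp2 : p ≠ 2) {g : G} (hg : g ∉ centralizer (E : Set G))
    (hbig : p ^ 2 < Nat.card (centralizer ({g} : Set G))) :
    ∃ d ∈ centralizer (E : Set G), Commute g d ∧ d ^ p ∈ Z ∧ d ^ p ≠ 1 ∧
      ∀ y ∈ Z, ∃ i : ℤ, (d ^ i) ^ p = y := by
  set T := centralizer (E : Set G) ⊓ centralizer ({g} : Set G) with hT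
  have hω : ∀ x ∈ T, x ^ p = 1 → x ∈ Z := fun x hx hxp =>
    F.mem_Z_of_commute hG (F.omega x hx.1 hxp) hg (mem_centralizer_singleton_iff.mp hx.2).symm
  haveI : IsCyclic T := isCyclic_of_omega_small hp2 (hG.to_subgroup T) F.Zc.le hω
  have hTbig : p < Nat.card T := by
    haveI := F.normal_centralizer
    have h := Core.card_sup_mul_card_inf (centralizer ({g} : Set G)) (centralizer (E : Set G))
    rw [inf_comm, ← hT] at h
    by_contra hle
    have h2 : Nat.card (centralizer ({g} : Set G) ⊔ centralizer (E : Set G) : Subgroup G) ≤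
        p * Nat.card (centralizer (E : Set G)) :=
      (Nat.le_of_dvd Nat.card_pos (card_subgroup_dvd_card _)).trans (F.card_le_mul hG)
    have h3 := Nat.mul_le_mul h2 (not_lt.mp hle)
    rw [h] at h3
    have h4 : Nat.card (centralizer ({g} : Set G)) ≤ p ^ 2 := by
      refine Nat.le_of_mul_le_mul_right ?_ (Nat.card_pos (α := centralizer (E : Set G)))
      exact h3.trans (by ring_nf; exact le_rfl)
    exact absurd h4 (not_le.mpr hbig)
  obtain ⟨t, ht⟩ := IsCyclic.exists_generator (α := T)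
  obtain ⟨j, hj⟩ := IsPGroup.iff_card.mp (hG.to_subgroup T)
  have hto : orderOf t = p ^ j := (orderOf_eq_card_of_forall_mem_zpowers ht).trans hj
  have hj2 : 2 ≤ j := by
    rw [hj] at hTbig
    nth_rewrite 1 [← pow_one p] at hTbig
    exact (Nat.pow_lt_pow_iff_right hp.out.one_lt).mp hTbig
  set d := t ^ p ^ (j - 2) with hd
  have hdo : orderOf d = p ^ 2 := by
    rw [hd, orderOf_pow_of_dvd (pow_ne_zero _ hp.out.ne_zero) (hto ▸ pow_dvd_pow p (Nat.sub_le j 2)),
      hto, Nat.pow_div (Nat.sub_le j 2) hp.out.pos, show j - (j - 2) = 2 by omega]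
  have hdp1 : ((d : G) ^ p) ^ p = 1 := by
    rw [← pow_mul, ← pow_two, ← hdo, ← Subgroup.orderOf_coe, pow_orderOf_eq_one]
  have hdZ : (d : G) ^ p ∈ Z := hω _ (T.pow_mem d.2 p) hdp1
  have hdne : (d : G) ^ p ≠ 1 := fun h => by
    have h1 := orderOf_dvd_of_pow_eq_one h
    rw [Subgroup.orderOf_coe, hdo, pow_two] at h1
    exact hp.out.one_lt.ne' (Nat.eq_one_of_dvd_one
      (Nat.dvd_of_mul_dvd_mul_left hp.out.pos (by rwa [mul_one])))
  refine ⟨d, d.2.1, (mem_centralizer_singleton_iff.mp d.2.2).symm, hdZ, hdne, fun y hy => ?_⟩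
  have heq : zpowers ((d : G) ^ p) = Z := eq_of_le_of_card_ge (zpowers_le.mpr hdZ) (by
    rw [F.Zc, Nat.card_zpowers, orderOf_eq_prime hdp1 hdne])
  obtain ⟨i, hi⟩ := mem_zpowers_iff.mp (heq.ge hy)
  refine ⟨i, ?_⟩
  rw [← hi, ← zpow_natCast ((d : G) ^ i) p, ← zpow_natCast (d : G) p, ← zpow_mul, ← zpow_mul,
    Int.mul_comm]

/-- Conjugating repeatedly. -/
theorem iterate {g x w t : G} (h1 : g * x * g⁻¹ = x * w) (h2 : g * w * g⁻¹ = w * t) (ht : t ∈ Z) :
    ∀ j : ℕ, g ^ j * x * (g ^ j)⁻¹ = x * w ^ j * t ^ (j.choose 2) := by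
  intro j
  induction j with
  | zero => simp
  | succ j ih =>
    calc g ^ (j + 1) * x * (g ^ (j + 1))⁻¹ = g * (g ^ j * x * (g ^ j)⁻¹) * g⁻¹ := by
          rw [pow_succ' g j]; group
      _ = (g * x * g⁻¹) * (g * w * g⁻¹) ^ j * (g * t ^ (j.choose 2) * g⁻¹) := by
          rw [ih, conj_pow]; group
      _ = x * w * (w ^ j * t ^ j) * t ^ (j.choose 2) := by
          rw [h1, h2, (F.Zcomm ht w).symm.mul_pow, ← ((F.Zcomm ht g).pow_left (j.choose 2)).eq,
            mul_inv_cancel_right]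
      _ = x * w ^ (j + 1) * t ^ ((j + 1).choose 2) := by
          rw [pow_succ' w j, Nat.choose_succ_succ, Nat.choose_one_right, pow_add t j]
          group

theorem pow_eq_one_of_iterate (hp2 : p ≠ 2) {g x w t : G} (h1 : g * x * g⁻¹ = x * w)
    (h2 : g * w * g⁻¹ = w * t) (ht : t ∈ Z) (hgp : Commute (g ^ p) x) : w ^ p = 1 := by
  have h := F.iterate h1 h2 ht p
  rw [hgp.eq, mul_inv_cancel_right, choose_two_kill hp2 (F.Eexp t (F.Zle ht)), mul_one] at h
  exact mul_eq_left.mp h.symm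

theorem layer_mem (hG : IsPGroup p G) (hp2 : p ≠ 2) {d x : G} (hd : d ∈ centralizer (E : Set G))
    (hdZ : d ^ p ∈ Z) (hgen : ∀ y ∈ Z, ∃ i : ℤ, (d ^ i) ^ p = y)
    (hx : x ∈ centralizer (E : Set G)) (hxZ : x ^ p ∈ Z) : ∃ e ∈ E, ∃ i : ℤ, x = e * d ^ i := by
  obtain ⟨i, hi⟩ := hgen _ hxZ
  refine ⟨x * d ^ (-i), F.omega _ (mul_mem hx (zpow_mem hd _)) ?_, i, by group⟩
  rw [(F.layer hG hp2 hx (zpow_mem hd _) (F.Zle hxZ)).2, ← hi, zpow_neg, inv_pow, mul_inv_cancel]

theorem conj_layer {g d : G} (hgd : Commute g d) {e : G} (he : e ∈ E) (i : ℤ) :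
    ∃ t ∈ Z, g * (e * d ^ i) * g⁻¹ = (e * d ^ i) * t := by
  obtain ⟨t, ht, hte⟩ := F.comm' he g
  refine ⟨t, ht, ?_⟩
  calc g * (e * d ^ i) * g⁻¹ = (g * e * g⁻¹) * (g * d ^ i * g⁻¹) := by group
    _ = t * e * d ^ i := by rw [hte, (hgd.zpow_right i).eq, mul_inv_cancel_right]
    _ = e * d ^ i * t := by rw [mul_assoc, (F.Zcomm ht _).eq]

/-- With a fixed element of order `p ^ 2` and `p`-th powers of the layer in `Z`, the centralizer of
`E` is `E⟨c⟩`. -/
theorem exists_cyclic (hG : IsPGroup p G) (hp2 : p ≠ 2) {d : G}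
    (hd : d ∈ centralizer (E : Set G)) (hdZ : d ^ p ∈ Z) (hdne : d ^ p ≠ 1)
    (hgen : ∀ y ∈ Z, ∃ i : ℤ, (d ^ i) ^ p = y)
    (hlay : ∀ x ∈ centralizer (E : Set G), x ^ p ∈ E → x ^ p ∈ Z) :
    ∃ c : G, ∃ k : ℕ, c ∈ centralizer (E : Set G) ∧ E ⊔ zpowers c = centralizer (E : Set G) ∧
      1 ≤ k ∧ orderOf c = p ^ (k + 1) ∧ c ^ p ^ k ∈ Z := by
  haveI := F.En
  set C := centralizer (E : Set G) with hC
  set π := QuotientGroup.mk' (E.subgroupOf C) with hπ
  have hQ : IsPGroup p (C ⧸ E.subgroupOf C) := (hG.to_subgroup C).to_quotient _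
  have hsmall : Nat.card (zpowers (π ⟨d, hd⟩)) ≤ p := by
    rw [Nat.card_zpowers]
    refine Nat.le_of_dvd hp.out.pos (orderOf_dvd_of_pow_eq_one ?_)
    rw [← map_pow]
    exact (QuotientGroup.eq_one_iff _).mpr (mem_subgroupOf.mpr (by simpa using F.Zle hdZ))
  have hcy := isCyclic_of_omega_small hp2 (K := (⊤ : Subgroup (C ⧸ E.subgroupOf C)))
    (hQ.to_subgroup ⊤) hsmall fun q _ hq => by
      obtain ⟨w, rfl⟩ := QuotientGroup.mk'_surjective _ q
      rw [← map_pow] at hq
      have hwE : (w : G) ^ p ∈ E := by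
        simpa using mem_subgroupOf.mp ((QuotientGroup.eq_one_iff _).mp hq)
      obtain ⟨e, he, i, hei⟩ := F.layer_mem hG hp2 hd hdZ hgen w.2 (hlay w w.2 hwE)
      refine mem_zpowers_iff.mpr ⟨i, ?_⟩
      rw [hπ, ← map_zpow, QuotientGroup.mk'_apply, QuotientGroup.mk'_apply, QuotientGroup.eq,
        mem_subgroupOf]
      simp only [Subgroup.coe_mul, Subgroup.coe_inv, SubgroupClass.coe_zpow]
      rw [hei, ← mul_assoc]
      simpa using F.En.conj_mem e he ((d ^ i)⁻¹)
  haveI : IsCyclic (C ⧸ E.subgroupOf C) :=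
    isCyclic_of_surjective Subgroup.topEquiv.toMonoidHom Subgroup.topEquiv.surjective
  obtain ⟨q, hq⟩ := IsCyclic.exists_generator (α := C ⧸ E.subgroupOf C)
  obtain ⟨c, hcq⟩ := QuotientGroup.mk'_surjective (E.subgroupOf C) q
  have hCgen : E ⊔ zpowers (c : G) = C := by
    refine le_antisymm (sup_le F.le_centralizer (zpowers_le.mpr c.2)) fun w hw => ?_
    obtain ⟨i, hi⟩ := mem_zpowers_iff.mp (hq (π ⟨w, hw⟩))
    rw [← inv_mul_cancel_right w ((c : G) ^ i)]
    refine mul_mem_sup ?_ (zpow_mem (mem_zpowers _) i)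
    rw [← hcq, ← hπ, ← map_zpow] at hi
    have : (⟨w, hw⟩ : C) * (c ^ i)⁻¹ ∈ E.subgroupOf C := by
      rw [← QuotientGroup.eq_one_iff, ← QuotientGroup.mk'_apply, map_mul, map_inv, ← hπ, hi,
        mul_inv_cancel]
    simpa [mem_subgroupOf] using this
  have hdE : d ∉ E := fun h => hdne (F.Eexp d h)
  have hcE : (c : G) ∉ E := fun h => hdE ((hCgen.ge.trans (sup_le le_rfl (zpowers_le.mpr h))) hd)
  obtain ⟨j, hj⟩ := hG (c : G)
  obtain ⟨j', -, hj'⟩ := (Nat.dvd_prime_pow hp.out).mp (orderOf_dvd_of_pow_eq_one hj)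
  obtain ⟨k, rfl⟩ : ∃ k, j' = k + 1 := ⟨j' - 1, by
    rcases j' with _ | j'
    · rw [pow_zero, orderOf_eq_one_iff] at hj'
      exact absurd (hj' ▸ one_mem E) hcE
    · omega⟩
  have hk : 1 ≤ k := by
    by_contra h
    refine hcE (F.omega _ c.2 ?_)
    rw [← pow_orderOf_eq_one (c : G), hj', show k + 1 = 1 by omega, pow_one]
  refine ⟨c, k, c.2, hCgen, hk, hj', ?_⟩
  have hz : ((c : G) ^ p ^ (k - 1)) ^ p = (c : G) ^ p ^ k := by
    rw [← pow_mul, ← pow_succ, Nat.sub_add_cancel hk]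
  rw [← hz]
  refine hlay _ (pow_mem c.2 _) ?_
  rw [hz]
  exact F.omega _ (pow_mem c.2 _) (by rw [← pow_mul, ← pow_succ, ← hj', pow_orderOf_eq_one])

theorem comm_of_sup {c : G} (hC : E ⊔ zpowers c = centralizer (E : Set G)) :
    ∀ a ∈ centralizer (E : Set G), ∀ b ∈ centralizer (E : Set G), Commute a b := by
  intro a ha b hb
  rw [← hC] at hb
  have hle : E ⊔ zpowers c ≤ centralizer {a} := by
    refine sup_le (fun e he => mem_centralizer_singleton_iff.mpr (mem_centralizer_iff.mp ha e he))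
      (zpowers_le.mpr ?_)
    rw [← hC] at ha
    have hac : E ⊔ zpowers c ≤ centralizer {c} := sup_le
      (fun e he => mem_centralizer_singleton_iff.mpr (mem_centralizer_iff.mp
        (hC.le (mem_sup_right (mem_zpowers c))) e he))
      (zpowers_le.mpr (mem_centralizer_singleton_iff.mpr rfl))
    exact mem_centralizer_singleton_iff.mpr (mem_centralizer_singleton_iff.mp (hac ha)).symm
  exact (mem_centralizer_singleton_iff.mp (hle hb)).symm

/-- In that case an element with `p`-th power centralizing `C(E)` acts trivially on `C(E) / E`. -/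
theorem commutator_mem (hG : IsPGroup p G) (hp2 : p ≠ 2) {g d : G}
    (hd : d ∈ centralizer (E : Set G)) (hgd : Commute g d) (hdZ : d ^ p ∈ Z)
    (hgen : ∀ y ∈ Z, ∃ i : ℤ, (d ^ i) ^ p = y)
    (hlay : ∀ x ∈ centralizer (E : Set G), x ^ p ∈ E → x ^ p ∈ Z)
    {c : G} (hC : E ⊔ zpowers c = centralizer (E : Set G))
    (hgp : ∀ x ∈ centralizer (E : Set G), Commute (g ^ p) x) :
    ∀ x ∈ centralizer (E : Set G), x⁻¹ * (g * x * g⁻¹) ∈ E := by
  haveI := F.normal_centralizer
  haveI := F.En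
  have key : ∀ i : ℕ, ∀ x ∈ centralizer (E : Set G), x ^ p ^ i ∈ E → x⁻¹ * (g * x * g⁻¹) ∈ E := by
    intro i
    induction i with
    | zero =>
      intro x _ hxE
      rw [pow_zero, pow_one] at hxE
      exact mul_mem (inv_mem hxE) (F.En.conj_mem x hxE g)
    | succ i ih =>
      intro x hx hxE
      set w := x⁻¹ * (g * x * g⁻¹) with hw
      have hwC : w ∈ centralizer (E : Set G) :=
        Subgroup.mul_mem _ (Subgroup.inv_mem _ hx) (F.normal_centralizer.conj_mem x hx g)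
      have hwp : w ^ p = (x ^ p)⁻¹ * (g * x ^ p * g⁻¹) := by
        rw [hw, (F.comm_of_sup hC _ (Subgroup.inv_mem _ hx) _
          (F.normal_centralizer.conj_mem x hx g)).mul_pow, inv_pow, conj_pow]
      have hwE : w ^ p ∈ E := by
        rw [hwp]
        exact ih (x ^ p) (Subgroup.pow_mem _ hx p) (by rwa [← pow_mul, ← pow_succ'])
      obtain ⟨e, he, q, hweq⟩ := F.layer_mem hG hp2 hd hdZ hgen hwC (hlay w hwC hwE)
      obtain ⟨t, ht, htw⟩ := F.conj_layer hgd he q
      exact F.omega w hwC (F.pow_eq_one_of_iterate hp2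
        (by rw [hw, mul_inv_cancel_left]) (by rw [hweq]; exact htw) ht (hgp x hx))
  intro x hx
  obtain ⟨i, hi⟩ := hG x
  exact key i x hx (by rw [hi]; exact one_mem _)

end Frame

end Cfsg.Agent.RankTwo
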