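import Cfsg.Agent.RankTwo.Basic
import Cfsg.Agent.Regular.PolySeq

/-!
Huppert's metacyclicity criteria for `p`-groups: at most `p ^ 2` cosets of the `p`-th powers
(`p` odd), and at most `p ^ 2` elements of order dividing `p` (`p > 3`).
-/

set_option autoImplicit false
set_option linter.unusedSectionVars false

namespace Cfsg.Agent.RankTwo

open Subgroup
open scoped commutatorElement

universe u

variable {p : ℕ} [hp : Fact p.Prime] {G : Type u} [Group G]

theorem powers_normal : (Cfsg.powerClosure p 1 (⊤ : Subgroup G)).Normal := by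
  refine ⟨fun x hx g => ?_⟩
  induction hx using closure_induction with
  | mem z hz =>
    obtain ⟨w, -, rfl⟩ := hz
    exact subset_closure ⟨g * w * g⁻¹, mem_top _, by rw [conj_pow]⟩
  | one => simp
  | mul a b _ _ iha ihb =>
    rw [show g * (a * b) * g⁻¹ = g * a * g⁻¹ * (g * b * g⁻¹) by group]
    exact mul_mem iha ihb
  | inv a _ iha =>
    rw [show g * a⁻¹ * g⁻¹ = (g * a * g⁻¹)⁻¹ by group]
    exact inv_mem iha

theorem pow_mem_powers (x : G) : x ^ p ∈ Cfsg.powerClosure p 1 (⊤ : Subgroup G) :=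
  subset_closure ⟨x, mem_top x, by rw [pow_one]⟩

variable [Finite G]

theorem powers_le_frattini (hG : IsPGroup p G) :
    Cfsg.powerClosure p 1 (⊤ : Subgroup G) ≤ frattini G := by
  obtain ⟨n, hn⟩ := IsPGroup.iff_card.mp hG
  rw [Cfsg.powerClosure, closure_le]
  rintro _ ⟨x, -, rfl⟩
  rw [pow_one, SetLike.mem_coe, ← QuotientGroup.eq_one_iff, QuotientGroup.mk_pow]
  exact (FGS.frattini_quotient_props hn).2 _

omit G [Group G] [Finite G] in
theorem isMetacyclic_of_index_powers_aux (hp2 : p ≠ 2) : ∀ (n : ℕ) (G : Type u) [Group G] [Finite G],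
    Nat.card G = n → IsPGroup p G →
    (Cfsg.powerClosure p 1 (⊤ : Subgroup G)).index ≤ p ^ 2 → Cfsg.IsMetacyclic G := by
  intro n
  induction n using Nat.strong_induction_on with
  | _ n ih =>
  intro G _ _ hn hG hidx
  set P := Cfsg.powerClosure p 1 (⊤ : Subgroup G) with hP
  haveI hPn : P.Normal := powers_normal
  haveI := hG.isNilpotent
  have hgen : ∀ K : Subgroup G, K ⊔ P = ⊤ → K = ⊤ := fun K hK =>
    Core.eq_top_of_sup_frattini (powers_le_frattini hG) hK
  have hcP : commutator G ≤ P := commutator_le_of_index_le hG hidx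
  by_cases hab : IsMulCommutative G
  · -- two generators
    by_cases hPtop : P = ⊤
    · have hbot : (⊥ : Subgroup G) = ⊤ := hgen ⊥ (by rw [hPtop, bot_sup_eq])
      haveI : Subsingleton G := Subgroup.subsingleton_iff.mp (subsingleton_of_bot_eq_top hbot)
      exact ⟨⊥, inferInstance, ⟨⟨1, fun x => ⟨0, Subsingleton.elim _ _⟩⟩⟩,
        ⟨⟨1, fun x => ⟨0, Subsingleton.elim _ _⟩⟩⟩⟩
    obtain ⟨a, -, ha⟩ := SetLike.exists_of_lt (lt_top_iff_ne_top.mpr hPtop)
    have hN : (zpowers a).Normal := ⟨fun x hx g => by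
      rwa [hab.is_comm.comm g x, mul_assoc, mul_inv_cancel, mul_one]⟩
    have h1 : p * Nat.card P ≤ Nat.card (P ⊔ zpowers a : Subgroup G) := card_mul_le_of_lt hG
      (lt_of_le_of_ne le_sup_left fun e => ha (e ▸ mem_sup_right (mem_zpowers a)))
    have h2 : (P ⊔ zpowers a).index ≤ p := by
      refine Nat.le_of_mul_le_mul_right ?_
        (mul_pos hp.out.pos (Nat.card_pos (α := P)))
      calc (P ⊔ zpowers a).index * (p * Nat.card P)
          ≤ (P ⊔ zpowers a).index * Nat.card (P ⊔ zpowers a : Subgroup G) := Nat.mul_le_mul_left _ h1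
        _ = Nat.card G := index_mul_card _
        _ = P.index * Nat.card P := P.index_mul_card.symm
        _ ≤ p ^ 2 * Nat.card P := Nat.mul_le_mul_right _ hidx
        _ = p * (p * Nat.card P) := by ring
    refine ⟨zpowers a, hN, isCyclic_zpowers a, ?_⟩
    by_cases htop : P ⊔ zpowers a = ⊤
    · exact isCyclic_quotient_of_sup (b := a) (by rw [sup_idem]; exact hgen _ (by rwa [sup_comm]))
    obtain ⟨b, -, hb⟩ := SetLike.exists_of_lt (lt_top_iff_ne_top.mpr htop)
    refine isCyclic_quotient_of_sup (b := b) (hgen _ ?_)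
    rw [sup_comm, ← sup_assoc]
    exact sup_eq_top_of_index_le hG h2 hb
  -- a central subgroup of order `p` inside the derived group
  obtain ⟨Y, hYc, hYZ, hYn, hYp⟩ := Fusion.exists_central_card_prime hG (commutator G)
    (MaxClass.commutator_ne_bot_of_not_comm hab)
  haveI := hYn
  set π := QuotientGroup.mk' Y with hπ
  have hlt : Nat.card (G ⧸ Y) < n := by
    rw [← hn, ← index_eq_card, ← Y.index_mul_card]
    exact lt_mul_of_one_lt_right (Nat.pos_of_ne_zero index_ne_zero_of_finite)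
      (hYp ▸ hp.out.one_lt)
  have hPmap : P.map π ≤ Cfsg.powerClosure p 1 (⊤ : Subgroup (G ⧸ Y)) := by
    rw [hP, Cfsg.powerClosure, MonoidHom.map_closure, closure_le]
    rintro _ ⟨_, ⟨x, -, rfl⟩, rfl⟩
    rw [pow_one, map_pow]
    exact pow_mem_powers _
  have hidx' : (Cfsg.powerClosure p 1 (⊤ : Subgroup (G ⧸ Y))).index ≤ p ^ 2 := by
    refine le_trans (Nat.le_of_dvd (Nat.pos_of_ne_zero index_ne_zero_of_finite)
      ((index_dvd_of_le hPmap).trans ?_)) hidx
    exact Subgroup.index_map_dvd P (QuotientGroup.mk'_surjective Y)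
  obtain ⟨N₀, hN₀n, hN₀c, hQc⟩ := ih _ hlt (G ⧸ Y) rfl (hG.to_quotient Y) hidx'
  obtain ⟨c₀, hc₀⟩ := isCyclic_iff_exists_zpowers_eq_top.mp hN₀c
  obtain ⟨c, hc⟩ := QuotientGroup.mk'_surjective Y (c₀ : G ⧸ Y)
  obtain ⟨b₀, hb₀⟩ := isCyclic_iff_exists_zpowers_eq_top.mp hQc
  obtain ⟨b₁, hb₁⟩ := QuotientGroup.mk'_surjective N₀ b₀
  obtain ⟨b, hb⟩ := QuotientGroup.mk'_surjective Y b₁
  set N := N₀.comap π with hN
  haveI : N.Normal := hN₀n.comap π
  have hYN : Y ≤ N := fun y hy => by
    rw [hN, mem_comap, show π y = 1 from (QuotientGroup.eq_one_iff y).mpr hy]; exact one_mem _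
  have hcN : c ∈ N := by rw [hN, mem_comap, hc]; exact c₀.2
  have hNel : ∀ x ∈ N, ∃ i : ℤ, ∃ y ∈ Y, x = c ^ i * y := by
    intro x hx
    obtain ⟨i, hi⟩ := mem_zpowers_iff.mp (hc₀ ▸ mem_top (⟨π x, hx⟩ : N₀))
    refine ⟨i, (c ^ i)⁻¹ * x, (QuotientGroup.eq_one_iff _).mp ?_, by group⟩
    show π ((c ^ i)⁻¹ * x) = 1
    rw [map_mul, map_inv, map_zpow, hc]
    have := congrArg Subtype.val hi
    rw [SubgroupClass.coe_zpow] at this
    rw [this, inv_mul_cancel]
  have hbgen : N ⊔ zpowers b = ⊤ := by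
    rw [eq_top_iff]
    intro x _
    obtain ⟨i, hi⟩ := mem_zpowers_iff.mp (hb₀ ▸ mem_top (QuotientGroup.mk' N₀ (π x)))
    rw [← inv_mul_cancel_right x (b ^ i)]
    refine mul_mem_sup ?_ (zpow_mem (mem_zpowers b) i)
    rw [hN, mem_comap, ← QuotientGroup.eq_one_iff, ← QuotientGroup.mk'_apply, map_mul, map_mul,
      map_inv, map_inv, map_zpow, map_zpow, hπ, hb, hb₁, hi, ← hπ, mul_inv_cancel]
  have hcomY : ∀ y ∈ Y, ∀ g : G, Commute g y := fun y hy g => mem_center_iff.mp (hYZ hy) g
  -- the commutator `d` of the two generators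
  set d := ⁅b, c⁆ with hd
  have hdN : d ∈ N := by
    rw [hd, commutatorElement_def]
    exact mul_mem (Subgroup.Normal.conj_mem inferInstance c hcN b) (inv_mem hcN)
  obtain ⟨s, y, hy, hds⟩ := hNel d hdN
  by_cases hYcz : Y ≤ zpowers c
  · refine ⟨N, inferInstance, ?_, isCyclic_quotient_of_sup hbgen⟩
    have : N = zpowers c := le_antisymm (fun x hx => by
      obtain ⟨i, y, hy, rfl⟩ := hNel x hx
      exact mul_mem (zpow_mem (mem_zpowers c) i) (hYcz hy)) (zpowers_le.mpr hcN)
    rw [this]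
    exact isCyclic_zpowers c
  have hconjc : c * d * c⁻¹ = d := by
    calc c * d * c⁻¹ = c ^ s * (c * y * c⁻¹) := by rw [hds]; group
      _ = d := by rw [(hcomY y hy c).eq, mul_inv_cancel_right, hds]
  have hconjb : b * d * b⁻¹ = d ^ (s + 1) := by
    have h1 : b * c * b⁻¹ = d * c := by rw [hd, commutatorElement_def]; group
    have hdc : Commute d c := by
      have := mul_inv_eq_iff_eq_mul.mp hconjc
      exact this.symm
    calc b * d * b⁻¹ = (b * c * b⁻¹) ^ s * (b * y * b⁻¹) := by rw [conj_zpow, hds]; group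
      _ = d ^ s * c ^ s * y := by
        rw [h1, hdc.mul_zpow, (hcomY y hy b).eq, mul_inv_cancel_right]
      _ = d ^ (s + 1) := by rw [mul_assoc, ← hds, zpow_add, zpow_one]
  have hSn : (zpowers d).Normal := by
    rw [← normalizer_eq_top_iff, eq_top_iff, ← hbgen]
    have hfin : ∀ g : G, g * d * g⁻¹ ∈ zpowers d →
        g ∈ normalizer (zpowers d : Set G) := by
      intro g hg
      rw [mem_normalizer_iff_map_conj_eq, MonoidHom.map_zpowers]
      refine eq_of_le_of_card_ge (zpowers_le.mpr hg) ?_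
      rw [← MonoidHom.map_zpowers, card_map_of_injective (MulEquiv.injective (MulAut.conj g))]
    refine sup_le (fun x hx => hfin x ?_) (zpowers_le.mpr (hfin b ?_))
    · obtain ⟨i, z, hz, rfl⟩ := hNel x hx
      have h1 : c ^ i ∈ centralizer ({d} : Set G) := zpow_mem
        (mem_centralizer_singleton_iff.mpr (mul_inv_eq_iff_eq_mul.mp hconjc)) i
      have h2 : z ∈ centralizer ({d} : Set G) :=
        mem_centralizer_singleton_iff.mpr (hcomY z hz d).eq.symm
      rw [show c ^ i * z * d * (c ^ i * z)⁻¹ = d from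
        mul_inv_eq_iff_eq_mul.mpr (mem_centralizer_singleton_iff.mp (mul_mem h1 h2))]
      exact mem_zpowers d
    · rw [hconjb]
      exact zpow_mem (mem_zpowers d) _
  have hcd : commutator G ≤ zpowers d := by
    set f := QuotientGroup.mk' (zpowers d) with hf
    have hbc : Commute (f b) (f c) := by
      rw [← commutatorElement_eq_one_iff_commute, ← map_commutatorElement]
      exact (QuotientGroup.eq_one_iff _).mpr (mem_zpowers d)
    have hall : ∀ g, Commute (f b) (f g) ∧ Commute (f c) (f g) := by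
      intro g
      have hle : N ⊔ zpowers b ≤ (centralizer ({f b} : Set (G ⧸ zpowers d))).comap f ⊓
          (centralizer ({f c} : Set (G ⧸ zpowers d))).comap f := by
        refine sup_le (fun x hx => ?_) (zpowers_le.mpr (Subgroup.mem_inf.mpr ⟨mem_centralizer_singleton_iff.mpr rfl,
          mem_centralizer_singleton_iff.mpr hbc.eq⟩))
        obtain ⟨i, z, hz, rfl⟩ := hNel x hx
        refine mul_mem (zpow_mem (Subgroup.mem_inf.mpr ⟨mem_centralizer_singleton_iff.mpr hbc.eq.symm,
          mem_centralizer_singleton_iff.mpr rfl⟩) i) (Subgroup.mem_inf.mpr ⟨?_, ?_⟩)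
        · exact mem_centralizer_singleton_iff.mpr ((hcomY z hz b).map f).eq.symm
        · exact mem_centralizer_singleton_iff.mpr ((hcomY z hz c).map f).eq.symm
      have := hle (hbgen.ge (mem_top g))
      exact ⟨(mem_centralizer_singleton_iff.mp this.1).symm,
        (mem_centralizer_singleton_iff.mp this.2).symm⟩
    rw [_root_.commutator_def, commutator_le]
    intro g _ g' _
    rw [← QuotientGroup.eq_one_iff, ← QuotientGroup.mk'_apply, map_commutatorElement,
      commutatorElement_eq_one_iff_mul_comm, ← hf]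
    have hle : N ⊔ zpowers b ≤ (centralizer ({f g} : Set (G ⧸ zpowers d))).comap f := by
      refine sup_le (fun x hx => ?_) (zpowers_le.mpr
        (mem_centralizer_singleton_iff.mpr (hall g).1.eq))
      obtain ⟨i, z, hz, rfl⟩ := hNel x hx
      refine mul_mem (zpow_mem (mem_centralizer_singleton_iff.mpr (hall g).2.eq) i) ?_
      exact mem_centralizer_singleton_iff.mpr ((hcomY z hz g).map f).eq.symm
    exact (mem_centralizer_singleton_iff.mp (hle (hbgen.ge (mem_top g')))).symm
  -- `d` lies in `Y`, so the class is two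
  have hYinf : ∀ i : ℤ, c ^ i ∈ Y → c ^ i = 1 := by
    intro i hi
    by_contra hne
    refine hYcz ?_
    have : zpowers (c ^ i) = Y := eq_of_le_of_card_ge (zpowers_le.mpr hi) (by
      rw [hYp]
      exact Nat.le_of_dvd Nat.card_pos (((hG.to_subgroup _).card_eq_or_dvd).resolve_left
        fun h => hne (by simpa using card_eq_one.mp h)))
    rw [← this]
    exact zpowers_le.mpr (zpow_mem (mem_zpowers c) i)
  have hdY : d ∈ Y := by
    obtain ⟨y₀, hy₀, hy₀1⟩ := (bot_or_exists_ne_one Y).resolve_left fun h => by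
      rw [h, card_bot] at hYp
      exact hp.out.one_lt.ne hYp
    obtain ⟨m, hm⟩ := mem_zpowers_iff.mp (hcd (hYc hy₀))
    rw [hds, ((hcomY y hy c).zpow_left s).mul_zpow, ← zpow_mul] at hm
    have h1 : c ^ (s * m) ∈ Y := by
      rw [eq_mul_inv_of_mul_eq hm]
      exact mul_mem hy₀ (inv_mem (zpow_mem hy m))
    have h2 := hYinf _ h1
    rw [h2, one_mul] at hm
    have hym : ¬ (p : ℤ) ∣ m := fun ⟨t, ht⟩ => hy₀1 (by
      have hyp : y ^ p = 1 := by
        have h3 := pow_card_eq_one' (x := (⟨y, hy⟩ : Y))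
        rw [hYp] at h3
        simpa using congrArg Subtype.val h3
      rw [← hm, ht, zpow_mul, zpow_natCast, hyp, one_zpow])
    have h3 : (c ^ s) ^ m = 1 := by rw [← zpow_mul, h2]
    have h4 : c ^ s = 1 := by
      obtain ⟨k, hk⟩ := hG (c ^ s)
      have hk' : (orderOf (c ^ s) : ℤ) ∣ (p : ℤ) ^ k := by
        exact_mod_cast orderOf_dvd_of_pow_eq_one hk
      have hm' : (orderOf (c ^ s) : ℤ) ∣ m := orderOf_dvd_iff_zpow_eq_one.mpr h3
      have hcop : IsCoprime ((p : ℤ) ^ k) m :=
        ((Nat.prime_iff_prime_int.mp hp.out).coprime_iff_not_dvd.mpr hym).pow_left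
      have h5 := Int.eq_one_of_dvd_one (Int.natCast_nonneg _)
        (hcop.isUnit_of_dvd' hk' hm' |>.dvd)
      exact orderOf_eq_one_iff.mp (by exact_mod_cast h5)
    rw [hds, h4, one_mul]
    exact hy
  have hcY : commutator G ≤ Y := hcd.trans (zpowers_le.mpr hdY)
  have hYexp : ∀ y ∈ Y, y ^ p = 1 := fun y hy => by
    have h3 := pow_card_eq_one' (x := (⟨y, hy⟩ : Y))
    rw [hYp] at h3
    simpa using congrArg Subtype.val h3
  have hpm : ∀ x w : G, (x * w) ^ p = x ^ p * w ^ p := fun x w => by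
    have h1 : ⁅w, x⁆ ∈ Y := hcY (by
      rw [_root_.commutator_def]; exact commutator_mem_commutator (mem_top _) (mem_top _))
    rw [Fusion.mul_pow_of_commute_commutator (hcomY _ h1 x).symm (hcomY _ h1 w).symm p]
    obtain ⟨k, hk⟩ := hp.out.dvd_choose_self two_ne_zero
      (lt_of_le_of_ne hp.out.two_le (Ne.symm hp2))
    rw [hk, pow_mul, hYexp _ h1, one_pow, mul_one]
  have hPr : P ≤ (MonoidHom.mk' (fun x : G => x ^ p) hpm).range := by
    rw [hP, Cfsg.powerClosure, closure_le]
    rintro _ ⟨x, -, rfl⟩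
    exact ⟨x, by simp⟩
  -- a root of the derived group outside `P`
  obtain ⟨y₀, hy₀, hy₀1⟩ := (bot_or_exists_ne_one Y).resolve_left fun h => by
    rw [h, card_bot] at hYp
    exact hp.out.one_lt.ne hYp
  have hYy : Y = zpowers y₀ := (eq_of_le_of_card_ge (zpowers_le.mpr hy₀) (by
    rw [hYp, Nat.card_zpowers, orderOf_eq_prime (hYexp _ hy₀) hy₀1])).symm
  classical
  haveI := Fintype.ofFinite G
  obtain ⟨w, hw, hwmax⟩ := Finset.exists_max_image
    (Finset.univ.filter fun w : G => y₀ ∈ zpowers w) orderOf ⟨y₀, by simp⟩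
  simp only [Finset.mem_filter, Finset.mem_univ, true_and] at hw hwmax
  have hwn : (zpowers w).Normal := by
    refine Subgroup.Normal.of_commutator_le G (hcY.trans ?_)
    rw [hYy]
    exact zpowers_le.mpr hw
  have hwP : w ∉ P := fun hwP => by
    obtain ⟨v, hv⟩ := hPr hwP
    change v ^ p = w at hv
    have hle : zpowers w ≤ zpowers v := zpowers_le.mpr (hv ▸ pow_mem (mem_zpowers v) p)
    have h1 := hwmax v (hle hw)
    have hv1 : v ≠ 1 := fun h => hy₀1 (by
      rw [h] at hle
      simpa using hle hw)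
    have hdv : p ∣ orderOf v := by
      rw [← Nat.card_zpowers]
      exact ((hG.to_subgroup _).card_eq_or_dvd).resolve_left fun h => hv1 (by
        simpa using card_eq_one.mp h)
    have h2 : orderOf w = orderOf v / p := by
      rw [← hv, orderOf_pow_of_dvd hp.out.ne_zero hdv]
    have := Nat.div_lt_self (orderOf_pos v) hp.out.one_lt
    omega
  have h1 : p * Nat.card P ≤ Nat.card (P ⊔ zpowers w : Subgroup G) := card_mul_le_of_lt hG
    (lt_of_le_of_ne le_sup_left fun e => hwP (e ▸ mem_sup_right (mem_zpowers w)))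
  have h2 : (P ⊔ zpowers w).index ≤ p := by
    refine Nat.le_of_mul_le_mul_right ?_ (mul_pos hp.out.pos (Nat.card_pos (α := P)))
    calc (P ⊔ zpowers w).index * (p * Nat.card P)
        ≤ (P ⊔ zpowers w).index * Nat.card (P ⊔ zpowers w : Subgroup G) := Nat.mul_le_mul_left _ h1
      _ = Nat.card G := index_mul_card _
      _ = P.index * Nat.card P := P.index_mul_card.symm
      _ ≤ p ^ 2 * Nat.card P := Nat.mul_le_mul_right _ hidx
      _ = p * (p * Nat.card P) := by ring
  refine ⟨zpowers w, hwn, isCyclic_zpowers w, ?_⟩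
  by_cases htop : P ⊔ zpowers w = ⊤
  · exact isCyclic_quotient_of_sup (b := w) (by rw [sup_idem]; exact hgen _ (by rwa [sup_comm]))
  obtain ⟨b', -, hb'⟩ := SetLike.exists_of_lt (lt_top_iff_ne_top.mpr htop)
  refine isCyclic_quotient_of_sup (b := b') (hgen _ ?_)
  rw [sup_comm, ← sup_assoc]
  exact sup_eq_top_of_index_le hG h2 hb'

/-- For odd `p`, at most `p ^ 2` cosets of the subgroup of `p`-th powers imply metacyclic. -/
theorem isMetacyclic_of_index_powers (hp2 : p ≠ 2) (hG : IsPGroup p G)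
    (hidx : (Cfsg.powerClosure p 1 (⊤ : Subgroup G)).index ≤ p ^ 2) : Cfsg.IsMetacyclic G :=
  isMetacyclic_of_index_powers_aux hp2 _ G rfl hG hidx

end Cfsg.Agent.RankTwo
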