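import Cfsg.Agent.RankTwo.Structure
import Cfsg.Agent.OddLocal.NarrowAction

/-!
`p`-groups, `p` odd, whose elements of order `p` are central and generate a group of order at most
`p ^ 2`, are metacyclic; a criterion for maximal class.
-/

set_option autoImplicit false
set_option linter.unusedSectionVars false
set_option linter.style.haveILetI false

namespace Cfsg.Agent.RankTwo

open Subgroup
open scoped commutatorElement

universe u

variable {p : ℕ} [hp : Fact p.Prime]

/-- Elements whose `p`-th power is killed by `p` form a subgroup on which the `p`-th power is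
multiplicative, when all elements of order `p` are central. -/
theorem pow_mul_of_pCentral {G : Type u} [Group G] [Finite G] (hp2 : p ≠ 2) (hG : IsPGroup p G)
    (hc : ∀ z : G, z ^ p = 1 → z ∈ center G) {x : G} (hx : (x ^ p) ^ p = 1) (g : G) :
    ⁅g, x⁆ ^ p = 1 ∧ ⁅g, x⁆ ∈ center G ∧ (x * g) ^ p = x ^ p * g ^ p := by
  have hxc : Commute g (x ^ p) := (mem_center_iff.mp (hc _ hx) g)
  have h1 := OddLocal.pow_eq_one_of_pow_eq hG hp2 hc (x := x) (y := g * x * g⁻¹)
    (by rw [conj_pow, hxc.eq, mul_inv_cancel_right])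
  have h2 : ⁅g, x⁆ = x * (x⁻¹ * (g * x * g⁻¹)) * x⁻¹ := by rw [commutatorElement_def]; group
  have h3 : ⁅g, x⁆ ^ p = 1 := by rw [h2, conj_pow, h1, mul_one, mul_inv_cancel]
  have h4 := hc _ h3
  refine ⟨h3, h4, ?_⟩
  rw [Fusion.mul_pow_of_commute_commutator (mem_center_iff.mp h4 x).symm
    (mem_center_iff.mp h4 g).symm p, choose_two_kill hp2 h3, mul_one]

theorem isMetacyclic_of_pCentral_aux (hp2 : p ≠ 2) : ∀ (n : ℕ) (G : Type u) [Group G] [Finite G],
    Nat.card G = n → IsPGroup p G → (∀ z : G, z ^ p = 1 → z ∈ center G) →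
    Nat.card (Cfsg.omegaOne p (⊤ : Subgroup G)) ≤ p ^ 2 → Cfsg.IsMetacyclic G := by
  intro n
  induction n using Nat.strong_induction_on with
  | _ n ih =>
  intro G _ _ hn hG hc hO
  set H := Cfsg.omegaOne p (⊤ : Subgroup G) with hH
  have hHc : H ≤ center G := by
    rw [hH, Cfsg.omegaOne, closure_le]
    exact fun z hz => hc z hz.2
  have hHexp : ∀ z ∈ H, z ^ p = 1 := by
    intro z hz
    rw [hH] at hz
    induction hz using closure_induction with
    | mem w hw => exact hw.2
    | one => exact one_pow p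
    | mul a b ha _ iha ihb =>
      rw [(show Commute b a from mem_center_iff.mp (hHc (hH ▸ ha)) b).symm.mul_pow, iha, ihb, one_mul]
    | inv a _ iha => rw [inv_pow, iha, inv_one]
  set P := Cfsg.powerClosure p 1 (⊤ : Subgroup G) with hP
  haveI hPn : P.Normal := powers_normal
  haveI hHn : H.Normal := omega_normal ⊤
  refine isMetacyclic_of_index_powers hp2 hG ?_
  rw [← hP]
  by_cases hPb : P = ⊥
  · have hexp : ∀ x : G, x ^ p = 1 := fun x => mem_bot.mp (hPb ▸ pow_mem_powers x)
    rw [hH, omega_eq_top hexp, card_top] at hO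
    rwa [hPb, index_bot]
  have hlt : Nat.card (G ⧸ H) < n := by
    rw [← hn, ← index_eq_card, ← H.index_mul_card]
    refine lt_mul_of_one_lt_right (Nat.pos_of_ne_zero index_ne_zero_of_finite) ?_
    refine (one_lt_card_iff_ne_bot H).mpr fun h => hPb ?_
    obtain ⟨Z, hZP, -, -, hZ⟩ := Fusion.exists_central_card_prime hG P hPb
    have hZH : Z ≤ H := fun z hz => by
      refine mem_omega (mem_top z) ?_
      have h3 := pow_card_eq_one' (x := (⟨z, hz⟩ : Z))
      rw [hZ] at h3
      simpa using congrArg Subtype.val h3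
    rw [h, le_bot_iff] at hZH
    rw [hZH, card_bot] at hZ
    exact absurd hZ hp.out.one_lt.ne
  set π := QuotientGroup.mk' H with hπ
  have hker : π.ker = H := QuotientGroup.ker_mk' H
  let L : Subgroup G :=
    { carrier := {x | (x ^ p) ^ p = 1}
      one_mem' := by simp
      mul_mem' := fun {x y} (hx : (x ^ p) ^ p = 1) (hy : (y ^ p) ^ p = 1) => by
        show ((x * y) ^ p) ^ p = 1
        rw [(pow_mul_of_pCentral hp2 hG hc hx y).2.2,
          (show Commute (y ^ p) (x ^ p) from mem_center_iff.mp (hc _ hx) _).symm.mul_pow, hx, hy,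
          one_mul]
      inv_mem' := fun {x} (hx : (x ^ p) ^ p = 1) => by
        show (x⁻¹ ^ p) ^ p = 1
        rw [inv_pow, inv_pow, hx, inv_one] }
  let f : L →* (H ⊓ P : Subgroup G) := MonoidHom.mk'
    (fun x => ⟨(x : G) ^ p, mem_omega (mem_top _) x.2, pow_mem_powers _⟩)
    fun x y => Subtype.ext (pow_mul_of_pCentral hp2 hG hc x.2 (y : G)).2.2
  have hfker : f.ker = H.subgroupOf L := by
    ext x
    rw [MonoidHom.mem_ker, mem_subgroupOf]
    exact ⟨fun h => mem_omega (mem_top _) (congrArg Subtype.val h :), fun h => Subtype.ext (hHexp _ h)⟩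
  have hHL : H ≤ L := fun z hz => show (z ^ p) ^ p = 1 by rw [hHexp z hz, one_pow]
  have hQmem : ∀ q : G ⧸ H, q ^ p = 1 → q ∈ L.map π := by
    intro q hq
    obtain ⟨x, rfl⟩ := QuotientGroup.mk'_surjective H q
    rw [← map_pow] at hq
    exact mem_map_of_mem π (show x ∈ L from hHexp _ ((QuotientGroup.eq_one_iff _).mp hq))
  have hQcard : Nat.card (L.map π) ≤ Nat.card (H ⊓ P : Subgroup G) := by
    have h1 : Nat.card (L.map π) = H.relIndex L := by rw [← relIndex_ker, hker]
    rw [h1]
    show (H.subgroupOf L).index ≤ _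
    rw [← hfker, index_ker]
    exact Nat.le_of_dvd Nat.card_pos (card_subgroup_dvd_card f.range)
  have hQc : ∀ q : G ⧸ H, q ^ p = 1 → q ∈ center (G ⧸ H) := by
    intro q hq
    obtain ⟨x, hx, rfl⟩ := hQmem q hq
    refine mem_center_iff.mpr fun q' => ?_
    obtain ⟨g, rfl⟩ := QuotientGroup.mk'_surjective H q'
    rw [← commutatorElement_eq_one_iff_mul_comm, ← map_commutatorElement]
    exact (QuotientGroup.eq_one_iff _).mpr (mem_omega (mem_top _)
      (pow_mul_of_pCentral hp2 hG hc (show (x ^ p) ^ p = 1 from hx) g).1)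
  have hQO : Cfsg.omegaOne p (⊤ : Subgroup (G ⧸ H)) ≤ L.map π :=
    (closure_le _).mpr fun q hq => hQmem q hq.2
  have hHP2 : Nat.card (H ⊓ P : Subgroup G) ≤ p ^ 2 :=
    (Nat.le_of_dvd Nat.card_pos (card_dvd_of_le inf_le_left)).trans hO
  by_cases hHP : H ≤ P
  · have hmQ := ih _ hlt (G ⧸ H) rfl (hG.to_quotient H) hQc
      ((Nat.le_of_dvd Nat.card_pos (card_dvd_of_le hQO)).trans (hQcard.trans hHP2))
    haveI hP'n : (P.map π).Normal := hPn.map _ (QuotientGroup.mk'_surjective H)
    have h1 := card_le_of_exponent_metacyclic hp2 ((hG.to_quotient H).to_quotient _)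
      (MaxClass.isMetacyclic_quotient hmQ (P.map π)) (fun q => by
        obtain ⟨q, rfl⟩ := QuotientGroup.mk'_surjective _ q
        obtain ⟨x, rfl⟩ := QuotientGroup.mk'_surjective H q
        rw [← map_pow, ← map_pow]
        exact (QuotientGroup.eq_one_iff _).mpr (mem_map_of_mem _ (pow_mem_powers x)))
    rwa [← index_eq_card, index_map_eq P (QuotientGroup.mk'_surjective H) (hker.le.trans hHP)] at h1
  -- otherwise `G / H` is cyclic
  have hHP1 : Nat.card (H ⊓ P : Subgroup G) ≤ p := by
    have h1 := (card_mul_le_of_lt hG (lt_of_le_of_ne (inf_le_left : H ⊓ P ≤ H)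
      fun h => hHP (h ▸ inf_le_right))).trans hO
    rw [pow_two] at h1
    exact Nat.le_of_mul_le_mul_left h1 hp.out.pos
  haveI : IsCyclic (G ⧸ H) := by
    have := isCyclic_of_omega_small hp2 (K := (⊤ : Subgroup (G ⧸ H)))
      ((hG.to_quotient H).to_subgroup ⊤) (hQcard.trans hHP1) fun q _ hq => hQmem q hq
    exact isCyclic_of_surjective Subgroup.topEquiv.toMonoidHom Subgroup.topEquiv.surjective
  obtain ⟨q, hq⟩ := IsCyclic.exists_generator (α := G ⧸ H)
  obtain ⟨c, rfl⟩ := QuotientGroup.mk'_surjective H q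
  have htop : H ⊔ zpowers c = ⊤ := by
    rw [eq_top_iff]
    intro w _
    obtain ⟨i, hi⟩ := mem_zpowers_iff.mp (hq (π w))
    rw [← inv_mul_cancel_right w (c ^ i)]
    refine mul_mem_sup ?_ (zpow_mem (mem_zpowers c) i)
    rw [← hker, MonoidHom.mem_ker, map_mul, map_inv, map_zpow, hi, mul_inv_cancel]
  set φ := QuotientGroup.mk' P with hφ
  haveI hH'n : (H.map φ).Normal := hHn.map _ (QuotientGroup.mk'_surjective P)
  have h2 := card_sup_zpowers_le (E := H.map φ) (y := φ c) (by
    rw [← map_pow]; exact (QuotientGroup.eq_one_iff _).mpr (pow_mem_powers c))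
  rw [← MonoidHom.map_zpowers, ← Subgroup.map_sup, htop,
    Subgroup.map_top_of_surjective φ (QuotientGroup.mk'_surjective P), card_top] at h2
  rw [index_eq_card]
  refine h2.trans ?_
  rw [pow_two]
  refine Nat.mul_le_mul_right p ?_
  have h3 : Nat.card (H.map φ) = P.relIndex H := by rw [← relIndex_ker, QuotientGroup.ker_mk']
  rw [h3, ← inf_relIndex_left]
  have h4 := relIndex_mul_relIndex ⊥ (H ⊓ P) H bot_le inf_le_left
  rw [relIndex_bot_left, relIndex_bot_left] at h4
  have hne : p ≤ Nat.card (H ⊓ P : Subgroup G) := by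
    refine Nat.le_of_dvd Nat.card_pos (((hG.to_subgroup _).card_eq_or_dvd).resolve_left fun h => ?_)
    obtain ⟨Z, hZP, -, -, hZ⟩ := Fusion.exists_central_card_prime hG P hPb
    have hle : Z ≤ H ⊓ P := le_inf (fun z hz => by
      refine mem_omega (mem_top z) ?_
      have h3 := pow_card_eq_one' (x := (⟨z, hz⟩ : Z))
      rw [hZ] at h3
      simpa using congrArg Subtype.val h3) hZP
    have := Nat.le_of_dvd Nat.card_pos (card_dvd_of_le hle)
    rw [h, hZ] at this
    exact absurd this (not_le.mpr hp.out.one_lt)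
  refine Nat.le_of_mul_le_mul_left ?_ hp.out.pos
  calc p * (H ⊓ P).relIndex H ≤ Nat.card (H ⊓ P : Subgroup G) * (H ⊓ P).relIndex H :=
        Nat.mul_le_mul_right _ hne
    _ = Nat.card H := h4
    _ ≤ p * p := hO.trans (pow_two p).le

/-- `p` odd: at most `p ^ 2` elements of order dividing `p`, all central, imply metacyclic. -/
theorem isMetacyclic_of_pCentral {G : Type u} [Group G] [Finite G] (hp2 : p ≠ 2) (hG : IsPGroup p G)
    (hc : ∀ z : G, z ^ p = 1 → z ∈ center G)
    (hO : Nat.card (Cfsg.omegaOne p (⊤ : Subgroup G)) ≤ p ^ 2) : Cfsg.IsMetacyclic G :=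
  isMetacyclic_of_pCentral_aux hp2 _ G rfl hG hc hO

/-- A group of order at most `p ^ (i + 1)` has class at most `i`. -/
theorem lcs_eq_bot_of_card_le {G : Type u} [Group G] [Finite G] (hG : IsPGroup p G) {i : ℕ}
    (hi : 1 ≤ i) (h : Nat.card G ≤ p ^ (i + 1)) : (⊤ : Subgroup G).lowerCentralSeries i = ⊥ := by
  by_contra hne
  have hnej : ∀ j ≤ i, (⊤ : Subgroup G).lowerCentralSeries j ≠ ⊥ := fun j hj h0 => hne
    (le_bot_iff.mp (h0 ▸ Subgroup.lowerCentralSeries_antitone _ hj))
  have h1 := hnej 1 hi
  rw [Subgroup.top_lowerCentralSeries_one] at h1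
  have s0 := Nat.le_of_dvd (Nat.pos_of_ne_zero index_ne_zero_of_finite)
    (MaxClass.sq_dvd_index_commutator hG h1)
  have key : ∀ j, 1 ≤ j → j ≤ i →
      p ^ (j - 1) * Nat.card ((⊤ : Subgroup G).lowerCentralSeries j) ≤ Nat.card (commutator G) := by
    intro j
    induction j with
    | zero => omega
    | succ j ihj =>
      intro _ hji
      rcases Nat.eq_zero_or_pos j with rfl | hj1
      · simp [_root_.commutator_def]
      refine le_trans ?_ (ihj hj1 (Nat.le_of_succ_le hji))
      have hs := MaxClass.lcs_step hG j (hnej j (Nat.le_of_succ_le hji))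
      calc p ^ (j + 1 - 1) * Nat.card ((⊤ : Subgroup G).lowerCentralSeries (j + 1))
          = p ^ (j - 1) * (p * Nat.card ((⊤ : Subgroup G).lowerCentralSeries (j + 1))) := by
            rw [← mul_assoc, ← pow_succ, Nat.sub_add_cancel hj1, Nat.add_sub_cancel]
        _ ≤ _ := Nat.mul_le_mul_left _ hs
  have s3 : p ≤ Nat.card ((⊤ : Subgroup G).lowerCentralSeries i) :=
    Nat.le_of_dvd Nat.card_pos (((hG.to_subgroup _).card_eq_or_dvd).resolve_left
      fun h => hne (card_eq_one.mp h))
  have h5 : p ^ (i + 2) ≤ Nat.card G := by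
    rw [← (commutator G).index_mul_card, show p ^ (i + 2) = p ^ 2 * (p ^ (i - 1) * p) by
      rw [← pow_succ, ← pow_add]; congr 1; omega]
    exact Nat.mul_le_mul s0 (le_trans (Nat.mul_le_mul_left _ s3) (key i hi le_rfl))
  exact absurd ((Nat.pow_le_pow_iff_right hp.out.one_lt).mp (h5.trans h)) (by omega)

/-- An element with centralizer of order at most `p ^ 2` forces maximal class. -/
theorem maxClass_of_centralizer : ∀ (n : ℕ) (G : Type u) [Group G] [Finite G],
    Nat.card G = p ^ n → 2 ≤ n → (∃ x : G, Nat.card (centralizer ({x} : Set G)) ≤ p ^ 2) →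
    (⊤ : Subgroup G).lowerCentralSeries (n - 2) ≠ ⊥ := by
  intro n
  induction n using Nat.strong_induction_on with
  | _ n ih =>
  intro G _ _ hn hn2 hex
  obtain ⟨x, hx⟩ := hex
  have hG : IsPGroup p G := IsPGroup.of_card hn
  by_cases h2 : n = 2
  · subst h2
    rw [Nat.sub_self, Subgroup.lowerCentralSeries_zero]
    intro h
    rw [← card_top (G := G), h, card_bot] at hn
    exact (Nat.one_lt_pow (by norm_num) hp.out.one_lt).ne hn
  haveI : Nontrivial G := Finite.one_lt_card_iff_nontrivial.mp
    (hn ▸ Nat.one_lt_pow (by omega) hp.out.one_lt)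
  haveI := IsPGroup.center_nontrivial hG
  set Z := center G with hZdef
  have hxZ : x ∉ Z := fun h => by
    have htop : centralizer ({x} : Set G) = ⊤ := eq_top_iff.mpr fun g _ =>
      mem_centralizer_singleton_iff.mpr (mem_center_iff.mp h g)
    rw [htop, card_top, hn] at hx
    exact absurd ((Nat.pow_le_pow_iff_right hp.out.one_lt).mp hx) (by omega)
  have hZne : Z ≠ ⊥ := (nontrivial_iff_ne_bot _).mp inferInstance
  have hZp : Nat.card Z = p := by
    refine le_antisymm ?_ (Nat.le_of_dvd Nat.card_pos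
      (((hG.to_subgroup _).card_eq_or_dvd).resolve_left fun h => hZne (card_eq_one.mp h)))
    have hlt : Z < centralizer ({x} : Set G) := lt_of_le_of_ne
      (fun z hz => mem_centralizer_singleton_iff.mpr (mem_center_iff.mp hz x).symm)
      fun h => hxZ (h ▸ mem_centralizer_singleton_iff.mpr rfl)
    refine Nat.le_of_mul_le_mul_left (((card_mul_le_of_lt hG hlt).trans hx).trans (pow_two p).le)
      hp.out.pos
  have hQ : Nat.card (G ⧸ Z) = p ^ (n - 1) := by
    have h := Z.index_mul_card
    rw [index_eq_card, hZp, hn, show p ^ n = p ^ (n - 1) * p by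
      rw [← pow_succ, Nat.sub_add_cancel (by omega)]] at h
    exact Nat.eq_of_mul_eq_mul_right hp.out.pos h
  set π := QuotientGroup.mk' Z with hπ
  have hQx : Nat.card (centralizer ({π x} : Set (G ⧸ Z))) ≤ p ^ 2 := by
    set P := (centralizer ({π x} : Set (G ⧸ Z))).comap π with hPdef
    have h1 := OddLocal.card_le_of_commutator_mem (L := P) (N := Z) (s := x) fun k hk => by
      rw [← QuotientGroup.eq_one_iff, ← QuotientGroup.mk'_apply, map_commutatorElement,
        commutatorElement_eq_one_iff_mul_comm]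
      exact mem_centralizer_singleton_iff.mp hk
    have hker : π.ker ≤ P := fun k hk => by
      rw [hPdef, mem_comap, MonoidHom.mem_ker.mp hk]; exact one_mem _
    have h3 := relIndex_mul_relIndex ⊥ π.ker P bot_le hker
    rw [relIndex_bot_left, relIndex_bot_left, relIndex_ker,
      map_comap_eq_self_of_surjective (QuotientGroup.mk'_surjective _), hπ, QuotientGroup.ker_mk',
      hZp] at h3
    refine Nat.le_of_mul_le_mul_left ?_ hp.out.pos
    rw [← hπ] at h3
    rw [h3, hZp] at *
    refine h1.trans ?_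
    rw [Nat.mul_comm]
    exact Nat.mul_le_mul_left p ((Nat.le_of_dvd Nat.card_pos
      (card_dvd_of_le inf_le_right)).trans hx)
  have hih := ih (n - 1) (by omega) (G ⧸ Z) hQ (by omega) ⟨π x, hQx⟩
  intro hbot
  refine hih (le_bot_iff.mp ?_)
  rw [← Subgroup.map_top_of_surjective π (QuotientGroup.mk'_surjective Z),
    ← Subgroup.map_lowerCentralSeries, Subgroup.map_le_iff_le_comap, MonoidHom.comap_bot,
    QuotientGroup.ker_mk']
  intro g hg
  refine mem_center_iff.mpr fun h => (commutatorElement_eq_one_iff_mul_comm.mp ?_).symm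
  rw [← mem_bot, ← hbot, show n - 2 = (n - 1 - 2) + 1 by omega, Subgroup.lowerCentralSeries_succ]
  exact commutator_mem_commutator hg (mem_top h)

/-- In a group of maximal class the second centre has order at most `p ^ 2`. -/
theorem card_le_of_maxClass {G : Type u} [Group G] [Finite G] {n : ℕ} (hn : Nat.card G = p ^ n)
    (hn4 : 4 ≤ n) (hmc : (⊤ : Subgroup G).lowerCentralSeries (n - 2) ≠ ⊥) {Y : Subgroup G}
    (hY : ∀ g : G, ∀ y ∈ Y, ⁅y, g⁆ ∈ center G) : Nat.card Y ≤ p ^ 2 := by
  have hG : IsPGroup p G := IsPGroup.of_card hn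
  set π := QuotientGroup.mk' (center G) with hπ
  set K := (center (G ⧸ center G)).comap π with hK
  have hYK : Y ≤ K := fun y hy => by
    rw [hK, mem_comap, mem_center_iff]
    intro q
    obtain ⟨g, rfl⟩ := QuotientGroup.mk'_surjective _ q
    refine (commutatorElement_eq_one_iff_mul_comm.mp ?_).symm
    rw [← map_commutatorElement]
    exact (QuotientGroup.eq_one_iff _).mpr (hY g y hy)
  by_contra hbig
  have hKc : p ^ 3 ≤ Nat.card K := by
    obtain ⟨j, hj⟩ := IsPGroup.iff_card.mp (hG.to_subgroup K)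
    have h1 := Nat.le_of_dvd Nat.card_pos (card_dvd_of_le hYK)
    rw [hj] at h1 ⊢
    refine Nat.pow_le_pow_right hp.out.pos ?_
    have := (Nat.pow_lt_pow_iff_right hp.out.one_lt).mp ((not_le.mp hbig).trans_le h1)
    omega
  haveI : K.Normal := Normal.comap inferInstance π
  have hidx : Nat.card (G ⧸ K) ≤ p ^ (n - 3) := by
    rw [← index_eq_card]
    refine Nat.le_of_mul_le_mul_right ?_ (pow_pos hp.out.pos 3)
    calc K.index * p ^ 3 ≤ K.index * Nat.card K := Nat.mul_le_mul_left _ hKc
      _ = p ^ n := by rw [index_mul_card, hn]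
      _ = p ^ (n - 3) * p ^ 3 := by rw [← pow_add, Nat.sub_add_cancel (by omega)]
  have hlow : (⊤ : Subgroup G).lowerCentralSeries (n - 4) ≤ K := by
    rcases Nat.lt_or_ge 4 n with h5 | h5
    · have h := lcs_eq_bot_of_card_le (i := n - 4) (hG.to_quotient K) (by omega)
        (by rwa [show n - 4 + 1 = n - 3 by omega])
      rw [← Subgroup.map_top_of_surjective (QuotientGroup.mk' K) (QuotientGroup.mk'_surjective K),
        ← Subgroup.map_lowerCentralSeries, Subgroup.map_eq_bot_iff, QuotientGroup.ker_mk'] at h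
      exact h
    · intro g _
      have hn4' : n = 4 := by omega
      rw [hK, mem_comap]
      have hQc : ∀ a b : G ⧸ center G, a * b = b * a := by
        suffices hcy : IsCyclic ((G ⧸ center G) ⧸ center (G ⧸ center G)) from
          commutative_of_cyclic_center_quotient
            (QuotientGroup.mk' (center (G ⧸ center G))) (QuotientGroup.ker_mk' _).le
        obtain ⟨j, hj⟩ := (hG.to_quotient (center G)).index (center (G ⧸ center G))
        have hidx2 : (center (G ⧸ center G)).index ≤ p ^ (n - 3) := by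
          rw [← index_comap_of_surjective _ (QuotientGroup.mk'_surjective (center G)), ← hK,
            index_eq_card]
          exact hidx
        rw [hj, hn4'] at hidx2
        have := (Nat.pow_le_pow_iff_right hp.out.one_lt).mp hidx2
        rcases (by omega : j = 0 ∨ j = 1) with rfl | rfl
        · have : Subsingleton ((G ⧸ center G) ⧸ center (G ⧸ center G)) :=
            (Nat.card_eq_one_iff_unique.1 (by rw [← index_eq_card, hj, pow_zero])).1
          infer_instance
        · exact isCyclic_of_prime_card (p := p) (by rw [← index_eq_card, hj, pow_one])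
      exact mem_center_iff.mpr fun q => hQc q _
  have h3 : (⊤ : Subgroup G).lowerCentralSeries (n - 3) ≤ center G := by
    rw [show n - 3 = (n - 4) + 1 by omega, Subgroup.lowerCentralSeries_succ, commutator_le]
    intro a ha g _
    have h := mem_center_iff.mp (hlow ha) (π g)
    refine (QuotientGroup.eq_one_iff _).mp ?_
    show π ⁅a, g⁆ = 1
    rw [map_commutatorElement, commutatorElement_eq_one_iff_mul_comm, h]
  refine hmc ?_
  rw [show n - 2 = (n - 3) + 1 by omega, Subgroup.lowerCentralSeries_succ, eq_bot_iff, commutator_le]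
  intro a ha g _
  rw [mem_bot, commutatorElement_eq_one_iff_mul_comm]
  exact (mem_center_iff.mp (h3 ha) g).symm

end Cfsg.Agent.RankTwo
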